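import Groth.Agent.Syntomic.FiberDim

/-!
# Bounding the dimension of one fibre by transcendence degrees
-/

set_option autoImplicit false

universe u

open TensorProduct

namespace Groth.SyntLift

open Groth.Syntomic

/-- The fibre over `p` has dimension at most `d` if all residue extensions of its points do. -/
theorem ringKrullDim_fiber_le_of_trdeg' {R B : Type u} [CommRing R] [CommRing B] [Algebra R B]
    [Algebra.FiniteType R B] (p : Ideal R) [p.IsPrime] (d : ℕ)
    (H : ∀ (K L : Type u) [Field K] [Field L] [Algebra K L] (χ : R →+* K) (ψ : B →+* L),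
      (∀ r, algebraMap K L (χ r) = ψ (algebraMap R B r)) → (∀ r, χ r = 0 ↔ r ∈ p) →
      (∀ x, ∃ a b, χ b ≠ 0 ∧ x = χ a / χ b) →
      (∀ z, ∃ a c, ψ c ≠ 0 ∧ z = ψ a / ψ c) → Algebra.trdeg K L ≤ (d : Cardinal.{u})) :
    ringKrullDim (p.Fiber B) ≤ (d : WithBot ℕ∞) := by
  refine ringKrullDim_le_of_trdeg_le (k := p.ResidueField) d fun P _ => ?_
  let L := FractionRing (p.Fiber B ⧸ P)
  let ι : p.Fiber B →+* L := (algebraMap (p.Fiber B ⧸ P) L).comp (Ideal.Quotient.mk P)
  let inc : B →ₐ[R] p.Fiber B := Algebra.TensorProduct.includeRight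
  let ψ : B →+* L := ι.comp inc.toRingHom
  have hR : ∀ r, algebraMap p.ResidueField L (algebraMap R p.ResidueField r) = ψ (algebraMap R B r) :=
    fun r => by
      have : algebraMap p.ResidueField L (algebraMap R p.ResidueField r) =
          ι (algebraMap R (p.Fiber B) r) := by
        rw [IsScalarTower.algebraMap_apply p.ResidueField (p.Fiber B ⧸ P) L,
          IsScalarTower.algebraMap_apply R p.ResidueField (p.Fiber B)]
        rfl
      rw [this]
      exact congrArg ι (inc.commutes r).symm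
  refine H _ _ (algebraMap R p.ResidueField) ψ hR
    (fun _ => Ideal.algebraMap_residueField_eq_zero) (fun x => ?_) fun z => ?_
  · obtain ⟨a, b, hb, rfl⟩ := IsFractionRing.div_surjective (R ⧸ p) x
    obtain ⟨a, rfl⟩ := Ideal.Quotient.mk_surjective a
    obtain ⟨b, rfl⟩ := Ideal.Quotient.mk_surjective b
    refine ⟨a, b, fun h => nonZeroDivisors.ne_zero hb ?_, rfl⟩
    exact Ideal.Quotient.eq_zero_iff_mem.mpr (Ideal.algebraMap_residueField_eq_zero.mp h)
  obtain ⟨x, y, hy, rfl⟩ := IsFractionRing.div_surjective (p.Fiber B ⧸ P) z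
  obtain ⟨x, rfl⟩ := Ideal.Quotient.mk_surjective x
  obtain ⟨y, rfl⟩ := Ideal.Quotient.mk_surjective y
  obtain ⟨r, hr, a, ha⟩ := Ideal.Fiber.exists_smul_eq_one_tmul p x
  obtain ⟨r', hr', c, hc⟩ := Ideal.Fiber.exists_smul_eq_one_tmul p y
  have key : ∀ (r : R) (x : p.Fiber B) (a : B), r • x = (1 : p.ResidueField) ⊗ₜ[R] a →
      ψ (algebraMap R B r) * ι x = ψ a := fun r x a h => by
    rw [← hR]
    calc algebraMap p.ResidueField L (algebraMap R p.ResidueField r) * ι x
        = ι (algebraMap R (p.Fiber B) r) * ι x := by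
          rw [hR]; exact congrArg (ι · * ι x) (inc.commutes r)
      _ = ι (r • x) := by rw [← map_mul, Algebra.smul_def]
      _ = ψ a := by rw [h]; rfl
  have hne : ∀ r : R, r ∉ p → ψ (algebraMap R B r) ≠ 0 := fun r hr h0 => hr (by
    rw [← hR, map_eq_zero] at h0
    exact Ideal.algebraMap_residueField_eq_zero.mp h0)
  have hy0 : ι y ≠ 0 := fun h => nonZeroDivisors.ne_zero hy
    ((map_eq_zero_iff _ (IsFractionRing.injective (p.Fiber B ⧸ P) L)).mp h)
  refine ⟨algebraMap R B r' * a, algebraMap R B r * c, ?_, ?_⟩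
  · rw [map_mul, ← key r' y c hc]
    exact mul_ne_zero (hne r hr) (mul_ne_zero (hne r' hr') hy0)
  · rw [map_mul, map_mul, ← key r x a ha, ← key r' y c hc]
    change ι x / ι y = _
    field_simp [hne r hr, hne r' hr', hy0]

end Groth.SyntLift
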