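import Groth.Agent.Syntomic.Main
import Groth.Agent.SyntLift.FiberBound

/-!
# The locus where a finitely presented algebra is locally a relative global complete intersection
-/

set_option autoImplicit false

universe u

open TensorProduct

namespace Groth.SyntLift

open Groth.Syntomic

variable {R : Type u} [CommRing R]

/-- Fibres of dimension at most `n - c` suffice for a relative global complete intersection. -/
theorem isRelGCI_of_dim_le {n c : ℕ} (F : Fin c → MvPolynomial (Fin n) R) (hc : c ≤ n)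
    (hdim : ∀ (p : Ideal R) [p.IsPrime],
      ringKrullDim (p.Fiber (Synt.RelGCIRing R n c F)) ≤ ((n - c : ℕ) : WithBot ℕ∞)) :
    Synt.IsRelGCI R n c F := by
  set I := Ideal.span (Set.range F) with hI
  have : Module.Flat R (Synt.RelGCIRing R n c F) := by
    refine Module.flat_of_isLocalized_maximal (MvPolynomial (Fin n) R) (MvPolynomial (Fin n) R ⧸ I)
      (fun m _ => Localization.AtPrime m ⊗[MvPolynomial (Fin n) R] (MvPolynomial (Fin n) R ⧸ I))
      (fun m _ => TensorProduct.mk (MvPolynomial (Fin n) R) (Localization.AtPrime m)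
        (MvPolynomial (Fin n) R ⧸ I) 1) fun m _ => ?_
    let e : (Localization.AtPrime m ⧸ I.map (algebraMap _ _)) ≃ₗ[R]
        Localization.AtPrime m ⊗[MvPolynomial (Fin n) R] (MvPolynomial (Fin n) R ⧸ I) :=
      (Algebra.TensorProduct.quotIdealMapEquivTensorQuot (Localization.AtPrime m) I).toLinearEquiv.restrictScalars R
    suffices Module.Flat R (Localization.AtPrime m ⧸ I.map (algebraMap _ (Localization.AtPrime m))) from
      Module.Flat.of_linearEquiv e.symm
    by_cases hm : I ≤ m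
    · have h2 := (Groth.Calg5.RelGCI.regular_flat F m hm hc (m.comap MvPolynomial.C) rfl (hdim _)).2 c
      have e1 : Ideal.ofList (((List.ofFn F).take c).map (algebraMap _ (Localization.AtPrime m))) =
          I.map (algebraMap _ (Localization.AtPrime m)) := by
        rw [List.take_of_length_le (by simp), ← Ideal.map_ofList,
          Groth.Calg5.RelGCI.ofList_ofFn, hI]
      exact Module.Flat.of_linearEquiv ((Submodule.quotEquivOfEq _ _ e1.symm).restrictScalars R)
    · obtain ⟨x, hx, hxm⟩ := SetLike.not_le_iff_exists.mp hm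
      have htop : I.map (algebraMap _ (Localization.AtPrime m)) = ⊤ :=
        Ideal.eq_top_of_isUnit_mem _ (Ideal.mem_map_of_mem _ hx)
          (IsLocalization.map_units (M := m.primeCompl) _ ⟨x, hxm⟩)
      have : Subsingleton (Localization.AtPrime m ⧸ I.map (algebraMap _ (Localization.AtPrime m))) :=
        Ideal.Quotient.subsingleton_iff.mpr htop
      infer_instance
  exact isRelGCI_of_koszul F (Groth.KoszulLCI.isKoszulRegularSeq_of_localization _ fun m _ hm =>
    Groth.KoszulReg.isKoszulRegularSeq_of_isWeaklyRegular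
      (Groth.Calg5.RelGCI.regular_flat F m (Groth.Calg5.RelGCI.ofList_ofFn F ▸ hm) hc
        (m.comap MvPolynomial.C) rfl (hdim _)).1)

variable {S : Type u} [CommRing S] [Algebra R S]

/-- The basic opens of `S` which are relative global complete intersections. -/
def IsGCIAway (R : Type u) [CommRing R] {S : Type u} [CommRing S] [Algebra R S] (t : S) : Prop :=
  ∃ (n c : ℕ) (F : Fin c → MvPolynomial (Fin n) R),
    Synt.IsRelGCI R n c F ∧ Nonempty (Synt.RelGCIRing R n c F ≃ₐ[R] Localization.Away t)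

/-- Equations cutting the fibre through a point in the expected dimension give a relative global
complete intersection near that point. -/
theorem exists_open_isGCIAway {n : ℕ} (φ : MvPolynomial (Fin n) R →ₐ[R] S) (hφ : Function.Surjective φ)
    (f : List (MvPolynomial (Fin n) R)) (hfI : Ideal.ofList f ≤ RingHom.ker φ.toRingHom)
    (h : MvPolynomial (Fin n) R) (hh : ∀ x ∈ RingHom.ker φ.toRingHom, h * x ∈ Ideal.ofList f)
    (hfn : f.length ≤ n) (Q : PrimeSpectrum S) (hQ : φ h ∉ Q.asIdeal) (p : Ideal R) [p.IsPrime]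
    (hp : Q.asIdeal.comap (algebraMap R S) = p)
    (hdim : ringKrullDim (p.Fiber (Localization.Away (φ h))) ≤ ((n - f.length : ℕ) : WithBot ℕ∞)) :
    ∃ V : Set (PrimeSpectrum S), IsOpen V ∧ Q ∈ V ∧
      ∀ Q₁ ∈ V, ∀ s ∉ Q₁.asIdeal, ∃ a, s * a ∉ Q₁.asIdeal ∧ IsGCIAway R (s * a) := by
  let B := Localization.Away (φ h)
  have : Algebra.FiniteType R S := .of_surjective φ hφ
  have : Algebra.FiniteType R B := (inferInstance : Algebra.FiniteType R S).trans inferInstance
  obtain ⟨W, hW, hWp, hWtr⟩ :=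
    Groth.FibreDim.exists_open_trdeg_le (B := B) ⟨p, inferInstance⟩ (n - f.length) hdim
  have hemb := PrimeSpectrum.localization_away_isOpenEmbedding B (φ h)
  have hrange := PrimeSpectrum.localization_away_comap_range B (φ h)
  obtain ⟨Q', hQ'⟩ : ∃ Q' : PrimeSpectrum B, Q'.comap (algebraMap S B) = Q := by
    have : Q ∈ Set.range (PrimeSpectrum.comap (algebraMap S B)) := hrange ▸ hQ
    exact this
  refine ⟨PrimeSpectrum.comap (algebraMap S B) '' W, hemb.isOpenMap W hW,
    ⟨Q', hWp Q' (PrimeSpectrum.ext ?_), hQ'⟩, ?_⟩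
  · rw [IsScalarTower.algebraMap_eq R S B, PrimeSpectrum.comap_asIdeal, ← Ideal.comap_comap,
      ← PrimeSpectrum.comap_asIdeal, hQ']
    exact hp
  rintro _ ⟨q, hqW, rfl⟩ s hs
  obtain ⟨_, ⟨β, rfl⟩, hβq, hβW⟩ :=
    PrimeSpectrum.isTopologicalBasis_basic_opens.exists_subset_of_mem_open hqW hW
  obtain ⟨⟨σ, ⟨_, k, rfl⟩⟩, hσ⟩ := IsLocalization.surj (Submonoid.powers (φ h)) β
  dsimp only at hσ
  have hhq : algebraMap S B (φ h) ∉ q.asIdeal := fun h0 =>
    q.isPrime.ne_top (Ideal.eq_top_of_isUnit_mem _ h0 (IsLocalization.Away.algebraMap_isUnit (φ h)))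
  have hσq : algebraMap S B σ ∉ q.asIdeal := by
    rw [← hσ, map_pow]
    exact fun h0 => (q.isPrime.mem_or_mem h0).elim hβq fun h1 => hhq (q.isPrime.mem_of_pow_mem k h1)
  have hsq : algebraMap S B s ∉ q.asIdeal := hs
  obtain ⟨σ, rfl⟩ := hφ σ
  obtain ⟨s, rfl⟩ := hφ s
  let G := h * σ * s
  refine ⟨φ (h * σ), ?_, ?_⟩
  · show algebraMap S B _ ∉ q.asIdeal
    rw [map_mul φ, map_mul, map_mul]
    exact fun h0 => (q.isPrime.mem_or_mem h0).elim hsq fun h1 => (q.isPrime.mem_or_mem h1).elim hhq hσq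
  rw [← map_mul φ, show s * (h * σ) = G by simp only [G]; ring]
  obtain ⟨F, ⟨e⟩, -⟩ := exists_away_presentation φ hφ G _
    (map_away_eq_ofList _ f hfI h G ((dvd_mul_right h σ).trans (dvd_mul_right _ s)) hh)
  have hlen : (f.map (algebraMap _ (Localization.Away G))).length = f.length := List.length_map ..
  let B₂ := Localization.Away (φ G)
  have hu : IsUnit (algebraMap S B₂ (φ h)) := by
    refine isUnit_of_dvd_unit (map_dvd _ ?_) (IsLocalization.Away.algebraMap_isUnit (φ G))
    exact map_dvd φ ((dvd_mul_right h σ).trans (dvd_mul_right _ s))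
  have huσ : IsUnit (algebraMap S B₂ (φ σ)) := by
    refine isUnit_of_dvd_unit (map_dvd _ ?_) (IsLocalization.Away.algebraMap_isUnit (φ G))
    exact map_dvd φ ((dvd_mul_left σ h).trans (dvd_mul_right _ s))
  let ρ : B →+* B₂ := IsLocalization.Away.lift (φ h) hu
  have hρ : ∀ s, ρ (algebraMap S B s) = algebraMap S B₂ s := IsLocalization.Away.lift_eq (φ h) hu
  have : Algebra.FiniteType R B₂ := (inferInstance : Algebra.FiniteType R S).trans inferInstance
  refine ⟨n + 1, _, F, isRelGCI_of_dim_le F (by omega) fun p' _ => ?_, ⟨e⟩⟩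
  rw [ringKrullDim_eq_of_ringEquiv (Algebra.TensorProduct.congr
    (AlgEquiv.refl (R := p'.ResidueField) (A₁ := p'.ResidueField)) e).toRingEquiv]
  refine le_trans (b := ((n - f.length : ℕ) : WithBot ℕ∞)) ?_
    (by exact_mod_cast (by omega : n - f.length ≤ n + 1 - (_ + 1)))
  refine ringKrullDim_fiber_le_of_trdeg p' _ fun K L _ _ _ χ ψ hcomp hgen => ?_
  let ψ' : B →+* L := ψ.comp ρ
  let Q₁ : PrimeSpectrum B := ⟨RingHom.ker ψ', RingHom.ker_isPrime ψ'⟩
  have hQ₁ : Q₁ ∈ W := hβW (by
    change ψ' β ≠ 0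
    intro h0
    have h1 := congrArg ψ' hσ
    rw [map_mul, h0, zero_mul] at h1
    have h2 : ψ (algebraMap S B₂ (φ σ)) = 0 := by rw [← hρ]; exact h1.symm
    exact (huσ.map ψ).ne_zero h2)
  refine hWtr Q₁ hQ₁ K L χ ψ' (fun r => ?_) (fun z => ?_) rfl
  · rw [hcomp, RingHom.comp_apply, IsScalarTower.algebraMap_apply R S B, hρ,
      ← IsScalarTower.algebraMap_apply]
  · obtain ⟨x, y, hy, rfl⟩ := hgen z
    obtain ⟨⟨x₀, ⟨_, i, rfl⟩⟩, hx⟩ := IsLocalization.surj (Submonoid.powers (φ G)) x
    obtain ⟨⟨y₀, ⟨_, j, rfl⟩⟩, hy'⟩ := IsLocalization.surj (Submonoid.powers (φ G)) y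
    have hx' := congrArg ψ hx
    have hy'' := congrArg ψ hy'
    dsimp only at hx' hy''
    rw [map_mul, ← hρ (φ G ^ i), ← hρ x₀] at hx'
    rw [map_mul, ← hρ (φ G ^ j), ← hρ y₀] at hy''
    have hne : ∀ i, ψ' (algebraMap S B (φ G ^ i)) ≠ 0 := fun i => by
      rw [RingHom.comp_apply, hρ, map_pow, map_pow]
      exact pow_ne_zero _ ((IsLocalization.Away.algebraMap_isUnit (φ G)).map ψ).ne_zero
    have hi := hne i
    have hj := hne j
    refine ⟨algebraMap S B x₀ * algebraMap S B (φ G ^ j),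
      algebraMap S B (φ G ^ i) * algebraMap S B y₀, ?_, ?_⟩
    · rw [map_mul]
      refine mul_ne_zero hi ?_
      change ψ (ρ (algebraMap S B y₀)) ≠ 0
      rw [← hy'']
      exact mul_ne_zero hy hj
    · simp only [ψ', map_mul, RingHom.comp_apply] at hi hj ⊢
      rw [← hx', ← hy'']
      field_simp

end Groth.SyntLift
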