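import Groth.Agent.SyntLift.Conormal
import Groth.Agent.SyntLift.Local
import Groth.Agent.NeronArea.IdempotentMatrix
import Mathlib.RingTheory.Smooth.StandardSmoothOfFree
import Mathlib.RingTheory.Nakayama

/-!
# Syntomic algebras over a quotient lift
-/

set_option autoImplicit false
set_option linter.style.haveILetI false

universe u

open Matrix

namespace Groth.SyntLift

open Groth.NeronArea

/-- An etale algebra over a polynomial ring is cut out by as many equations as new variables. -/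
theorem exists_presentation_etale {R U : Type u} [CommRing R] [CommRing U] {n : ℕ} [Algebra R U]
    [Algebra (MvPolynomial (Fin n) R) U] [IsScalarTower R (MvPolynomial (Fin n) R) U]
    [Algebra.Etale (MvPolynomial (Fin n) R) U] :
    ∃ (k : ℕ) (φ : MvPolynomial (Fin (k + n)) R →ₐ[R] U) (g : Fin k → MvPolynomial (Fin (k + n)) R),
      Function.Surjective φ ∧ RingHom.ker φ.toRingHom = Ideal.span (Set.range g) := by
  obtain ⟨ι, σ, _, _, Pr, hPr⟩ := (Algebra.Etale.iff_isStandardSmoothOfRelativeDimension_zero.1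
    (inferInstance : Algebra.Etale (MvPolynomial (Fin n) R) U)).out
  have hle : Nat.card σ ≤ Nat.card ι := Nat.card_le_card_of_injective Pr.map Pr.map_inj
  have hcard : Nat.card σ = Nat.card ι := by
    rw [Algebra.Presentation.dimension] at hPr
    omega
  let eσ : σ ≃ Fin (Nat.card ι) := (Finite.equivFin σ).trans (finCongr hcard)
  let e : MvPolynomial (Fin (Nat.card ι + n)) R ≃ₐ[R] MvPolynomial ι (MvPolynomial (Fin n) R) :=
    (MvPolynomial.renameEquiv R
      (finSumFinEquiv.symm.trans (Equiv.sumCongr (Finite.equivFin ι).symm (Equiv.refl _)))).trans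
      (MvPolynomial.sumAlgEquiv R ι (Fin n))
  let ev : MvPolynomial ι (MvPolynomial (Fin n) R) →ₐ[R] U :=
    (MvPolynomial.aeval Pr.val).restrictScalars R
  refine ⟨Nat.card ι, ev.comp e.toAlgHom, fun i => e.symm (Pr.relation (eσ.symm i)), ?_, ?_⟩
  · exact (Function.RightInverse.surjective (g := Pr.σ) Pr.aeval_val_σ).comp e.surjective
  · ext x
    have hk : RingHom.ker (MvPolynomial.aeval (R := MvPolynomial (Fin n) R) Pr.val) =
        Ideal.span (Set.range Pr.relation) :=
      Pr.ker_eq_ker_aeval_val.symm.trans Pr.span_range_relation_eq_ker.symm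
    have h1 : x ∈ RingHom.ker (ev.comp e.toAlgHom).toRingHom ↔ e x ∈ Ideal.span (Set.range Pr.relation) := by
      rw [← hk]; rfl
    have h2 : (Ideal.span (Set.range Pr.relation)).map e.symm.toRingHom =
        Ideal.span (Set.range fun i => e.symm (Pr.relation (eσ.symm i))) := by
      rw [Ideal.map_span, ← Set.range_comp]
      exact congrArg Ideal.span (eσ.symm.surjective.range_comp _).symm
    rw [h1, ← h2]
    constructor
    · intro hx
      simpa using Ideal.mem_map_of_mem e.symm.toRingHom hx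
    · intro hx
      have := Ideal.mem_map_of_mem e.toRingHom hx
      rw [Ideal.map_map, show e.toRingHom.comp e.symm.toRingHom = RingHom.id _ from
        RingHom.ext e.apply_symm_apply, Ideal.map_id] at this
      exact this

theorem exists_syntomic_lift {R A₀ : Type u} [CommRing R] (I : Ideal R) [CommRing A₀]
    [Algebra (R ⧸ I) A₀] (hsyn : Synt.IsSyntomic (R ⧸ I) A₀) :
    ∃ (A : Type u) (_ : CommRing A) (_ : Algebra R A), Synt.IsSyntomic R A ∧
      Nonempty ((A ⧸ I.map (algebraMap R A)) ≃ₐ[R ⧸ I] A₀) := by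
  classical
  obtain ⟨-, n, φ₀, hφ₀, hK⟩ := (Groth.Syntomic.isSyntomic_iff.1 hsyn).2
  obtain ⟨hflat, -, hfib⟩ := hsyn
  have hI₀ := Groth.KoszulLCI.fg_of_isKoszulRegularIdeal hK
  obtain ⟨m, f₀, hf₀⟩ := Submodule.fg_iff_exists_fin_generating_family.1 hI₀
  let P := MvPolynomial (Fin n) R
  let q : P →+* (MvPolynomial (Fin n) (R ⧸ I)) := MvPolynomial.map (Ideal.Quotient.mk I)
  have hq : Function.Surjective q := MvPolynomial.map_surjective _ Ideal.Quotient.mk_surjective
  let J₀ : Ideal (MvPolynomial (Fin n) (R ⧸ I)) := RingHom.ker φ₀.toRingHom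
  have hJ₀ : J₀ = Ideal.span (Set.range f₀) := hf₀.symm
  have hf₀0 : ∀ i, φ₀ (f₀ i) = 0 := fun i => by
    have : f₀ i ∈ J₀ := hJ₀ ▸ Ideal.subset_span ⟨i, rfl⟩
    exact this
  obtain ⟨E₀, hE₀f, hE₀K⟩ := exists_conormal_idempotent (J := J₀) f₀ hJ₀ hK
  -- lifts to `P`
  choose f hf using fun i => hq (f₀ i)
  choose F hF using fun i j => hq (E₀ i j)
  let π : P →+* A₀ := φ₀.toRingHom.comp q
  letI : Algebra P A₀ := π.toAlgebra
  have hFE : (Matrix.of F).map (algebraMap P A₀) = E₀.map φ₀ := by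
    ext i j; show φ₀ (q (F i j)) = φ₀ (E₀ i j); rw [hF]
  have hidem : IsIdempotentElem (E₀.map φ₀) := by
    ext i l
    have h1 : ∑ j, ((1 : Matrix (Fin m) (Fin m) (MvPolynomial (Fin n) (R ⧸ I))) - E₀) i j * E₀ j l ∈ J₀ := by
      refine hE₀K _ ?_ l
      simpa [sub_mul, Matrix.one_apply] using hE₀f i
    have h2 : φ₀ (((1 - E₀) * E₀) i l) = 0 := h1
    rw [Matrix.sub_mul, Matrix.one_mul, Matrix.sub_apply, map_sub, sub_eq_zero] at h2
    rw [← Matrix.map_mul]
    exact h2.symm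
  obtain ⟨U, _, _, _, ψ, s, hker, hkersq, E, hE, hEψ⟩ := IdemMatrix.exists_etale_idempotent A₀
    (hφ₀.comp hq) (Matrix.of F) (by rw [hFE]; exact hidem)
  rw [hFE] at hEψ
  letI : Algebra R U := ((algebraMap P U).comp MvPolynomial.C).toAlgebra
  have : IsScalarTower R P U := IsScalarTower.of_algebraMap_eq' rfl
  let a : P →+* U := algebraMap P U
  have hψa : ∀ p, ψ (a p) = φ₀ (q p) := fun p => ψ.commutes p
  let J : Ideal U := RingHom.ker ψ.toRingHom
  let v : Fin m → U := fun i => ∑ j, E i j * a (f j)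
  let S : Ideal U := Ideal.span (Set.range v)
  let IU : Ideal U := I.map (algebraMap R U)
  have hfJ : ∀ j, a (f j) ∈ J := fun j => by
    show ψ _ = 0
    rw [hψa, hf]; exact hf₀0 j
  have hvE : E *ᵥ v = v := by
    show E *ᵥ (E *ᵥ fun j => a (f j)) = E *ᵥ fun j => a (f j)
    rw [Matrix.mulVec_mulVec, hE.eq]
  have hSJ : S ≤ J := Ideal.span_le.2 (by
    rintro _ ⟨i, rfl⟩; exact Ideal.sum_mem _ fun j _ => Ideal.mul_mem_left _ _ (hfJ j))
  have hkq : ∀ x, q x = 0 → a x ∈ IU := fun x hx => by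
    have : x ∈ I.map (MvPolynomial.C : R →+* P) := by
      have h : x ∈ RingHom.ker q := hx
      rwa [MvPolynomial.ker_map, Ideal.mk_ker] at h
    have := Ideal.mem_map_of_mem a this
    rwa [Ideal.map_map] at this
  have hlift : ∀ x : P, φ₀ (q x) = 0 → a x ∈ IU ⊔ Ideal.span (Set.range fun j => a (f j)) := by
    intro x hx
    obtain ⟨c, hc⟩ := (Ideal.mem_span_range_iff_exists_fun).1
      (hJ₀ ▸ (show q x ∈ J₀ from hx))
    choose c' hc' using fun j => hq (c j)
    have h0 : q (x - ∑ j, c' j * f j) = 0 := by simp [map_sum, hc', hf, hc]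
    have := add_mem (Ideal.mem_sup_left (T := Ideal.span (Set.range fun j => a (f j))) (hkq _ h0))
      (Ideal.mem_sup_right (S := IU) (Ideal.sum_mem _ fun j (_ : j ∈ Finset.univ) =>
        Ideal.mul_mem_left (Ideal.span (Set.range fun j => a (f j))) (a (c' j)) (Ideal.subset_span ⟨j, rfl⟩)))
    simpa [map_sum] using this
  have hIUJ : IU ≤ J := Ideal.map_le_iff_le_comap.2 fun x hx => by
    show ψ (a (MvPolynomial.C x)) = 0
    rw [hψa, show q (MvPolynomial.C x) = MvPolynomial.C (Ideal.Quotient.mk I x) from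
      MvPolynomial.map_C _ _, Ideal.Quotient.eq_zero_iff_mem.2 hx, map_zero, map_zero]
  have hJle : J ≤ (IU ⊔ S) ⊔ J ^ 2 := by
    refine hkersq.trans (sup_le (Ideal.map_le_iff_le_comap.2 fun x hx => ?_) le_sup_right)
    have hfall : Ideal.span (Set.range fun j => a (f j)) ≤ (IU ⊔ S) ⊔ J ^ 2 := by
      rw [Ideal.span_le]
      rintro _ ⟨i, rfl⟩
      have hd : q (f i - ∑ j, F i j * f j) ∈ J₀ ^ 2 := by simpa [map_sum, hf, hF] using hE₀f i
      have hmem : f i - ∑ j, F i j * f j ∈ RingHom.ker q ⊔ Ideal.span (Set.range f) ^ 2 := by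
        have h1 : J₀ ^ 2 = (Ideal.span (Set.range f) ^ 2).map q := by
          rw [Ideal.map_pow, Ideal.map_span, ← Set.range_comp, hJ₀]; congr; funext i; exact (hf i).symm
        rw [h1] at hd
        obtain ⟨z, hz, hzq⟩ := (Ideal.mem_map_iff_of_surjective q hq).1 hd
        have := add_mem (Ideal.mem_sup_left (T := Ideal.span (Set.range f) ^ 2)
          (show (f i - ∑ j, F i j * f j) - z ∈ RingHom.ker q by
            rw [RingHom.mem_ker, map_sub, hzq, sub_self]))
          (Ideal.mem_sup_right (S := RingHom.ker q) hz)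
        rwa [sub_add_cancel] at this
      have h2 : a (f i - ∑ j, F i j * f j) ∈ (IU ⊔ S) ⊔ J ^ 2 := by
        have h := Ideal.mem_map_of_mem a hmem
        rw [Ideal.map_sup, Ideal.map_pow, Ideal.map_span, ← Set.range_comp] at h
        have hle1 : (RingHom.ker q).map a ≤ IU ⊔ S :=
          le_sup_of_le_left (Ideal.map_le_iff_le_comap.2 fun y hy => hkq y hy)
        have hle2 : Ideal.span (Set.range (a ∘ f)) ≤ J := by
          rw [Ideal.span_le]; rintro _ ⟨j, rfl⟩; exact hfJ j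
        exact sup_le_sup hle1 (Ideal.pow_right_mono hle2 2) h
      have h3 : ∑ j, (a (F i j) - E i j) * a (f j) ∈ J ^ 2 := Ideal.sum_mem _ fun j _ => by
        rw [pow_two]
        refine Ideal.mul_mem_mul ?_ (hfJ j)
        show ψ _ = 0
        rw [map_sub, hψa, hF, show ψ (E i j) = φ₀ (E₀ i j) from congrFun (congrFun hEψ i) j]
        exact sub_self _
      have h4 : v i ∈ (IU ⊔ S) ⊔ J ^ 2 :=
        Ideal.mem_sup_left (Ideal.mem_sup_right (Ideal.subset_span ⟨i, rfl⟩))
      have h5 := add_mem (add_mem h2 (Ideal.mem_sup_right h3)) h4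
      show a (f i) ∈ (IU ⊔ S) ⊔ J ^ 2
      convert h5 using 1
      simp only [v, map_sub, map_sum, map_mul, sub_mul, Finset.sum_sub_distrib]; ring
    exact (sup_le (le_sup_of_le_left le_sup_left) hfall) (hlift x hx)
  -- Nakayama
  let mkV : U →+* U ⧸ (IU ⊔ S) := Ideal.Quotient.mk _
  have hJfg : (J.map mkV).FG := by
    let T := (Finset.univ.image fun j => a (f j)) ∪ s
    refine ⟨T.image mkV, ?_⟩
    rw [Finset.coe_image, ← Ideal.map_span]
    refine le_antisymm (Ideal.map_mono (Ideal.span_le.2 ?_)) ?_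
    · intro x hx
      rcases Finset.mem_union.1 (Finset.mem_coe.1 hx) with h | h
      · obtain ⟨j, -, rfl⟩ := Finset.mem_image.1 h; exact hfJ j
      · show x ∈ RingHom.ker ψ.toRingHom
        rw [hker]; exact Ideal.mem_sup_right (Ideal.subset_span h)
    · have hle : J ≤ (IU ⊔ S) ⊔ Ideal.span (T : Set U) := by
        refine hker.le.trans (sup_le (Ideal.map_le_iff_le_comap.2 fun y hy => ?_) ?_)
        · suffices h' : IU ⊔ Ideal.span (Set.range fun j => a (f j)) ≤
              (IU ⊔ S) ⊔ Ideal.span (T : Set U) from h' (hlift y hy)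
          refine sup_le (le_sup_of_le_left le_sup_left) (le_sup_of_le_right (Ideal.span_mono ?_))
          rintro _ ⟨j, rfl⟩
          exact Finset.mem_coe.2 (Finset.mem_union_left _ (Finset.mem_image_of_mem _ (Finset.mem_univ j)))
        · exact le_sup_of_le_right (Ideal.span_mono fun z hz =>
            Finset.mem_coe.2 (Finset.mem_union_right _ hz))
      refine (Ideal.map_mono hle).trans ?_
      rw [Ideal.map_sup, show (IU ⊔ S).map mkV = ⊥ from Ideal.map_quotient_self _, bot_sup_eq]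
  obtain ⟨r, hr1, hr⟩ := Submodule.exists_sub_one_mem_and_smul_eq_zero_of_fg_of_le_smul (J.map mkV)
    (J.map mkV) hJfg (by
      have := Ideal.map_mono (f := mkV) hJle
      rw [Ideal.map_sup, show (IU ⊔ S).map mkV = ⊥ from Ideal.map_quotient_self _, bot_sup_eq,
        Ideal.map_pow, pow_two] at this
      exact this)
  obtain ⟨h, rfl⟩ := Ideal.Quotient.mk_surjective r
  have hh : ∀ x ∈ J, h * x ∈ IU ⊔ S := fun x hx => Ideal.Quotient.eq_zero_iff_mem.1 (by
    rw [map_mul]; exact hr _ (Ideal.mem_map_of_mem mkV hx))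
  have hψh : ψ h = 1 := by
    obtain ⟨z, hz, hz'⟩ := (Ideal.mem_map_iff_of_surjective mkV Ideal.Quotient.mk_surjective).1 hr1
    have : h - 1 - z ∈ IU ⊔ S := Ideal.Quotient.eq_zero_iff_mem.1 (by
      rw [map_sub, map_sub, map_one]; exact sub_eq_zero.2 hz'.symm)
    have h1 := add_mem (sup_le hIUJ hSJ this) hz
    rw [sub_add_cancel] at h1
    have h2 : ψ (h - 1) = 0 := h1
    rwa [map_sub, map_one, sub_eq_zero] at h2
  -- the algebra `U ⧸ S` and its reduction
  let mkC : U →+* U ⧸ S := Ideal.Quotient.mk S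
  let θ : U ⧸ S →+* A₀ := Ideal.Quotient.lift S ψ.toRingHom fun x hx => hSJ hx
  have hθ : ∀ x, θ (mkC x) = ψ x := fun x => rfl
  have hθsurj : Function.Surjective θ := fun y => by
    obtain ⟨p, rfl⟩ := (hφ₀.comp hq) y
    exact ⟨mkC (a p), (hθ _).trans (hψa p)⟩
  have hθR : ∀ r, θ (algebraMap R (U ⧸ S) r) = algebraMap (R ⧸ I) A₀ (Ideal.Quotient.mk I r) :=
    fun r => by
      show ψ (a (MvPolynomial.C r)) = _
      rw [hψa, show q (MvPolynomial.C r) = MvPolynomial.C (Ideal.Quotient.mk I r) from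
        MvPolynomial.map_C _ _]
      exact φ₀.commutes _
  have hθker : ∀ x, θ x = 0 → mkC h * x ∈ I.map (algebraMap R (U ⧸ S)) := by
    intro x hx
    obtain ⟨u, rfl⟩ := Ideal.Quotient.mk_surjective x
    have hm := Ideal.mem_map_of_mem mkC (hh u hx)
    rw [Ideal.map_sup, show S.map mkC = ⊥ from Ideal.map_quotient_self _, sup_bot_eq, map_mul,
      Ideal.map_map] at hm
    exact hm
  obtain ⟨k, φU, g, hφU, hkU⟩ := exists_presentation_etale (R := R) (U := U) (n := n)
  let φC : MvPolynomial (Fin (k + n)) R →ₐ[R] U ⧸ S := (Ideal.Quotient.mkₐ R S).comp φU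
  have hφC : Function.Surjective φC := Ideal.Quotient.mk_surjective.comp hφU
  have hloc : ∀ Q : PrimeSpectrum (U ⧸ S), RingHom.ker θ ≤ Q.asIdeal →
      ∃ V : Set (PrimeSpectrum (U ⧸ S)), IsOpen V ∧ Q ∈ V ∧
        ∀ Q₁ ∈ V, ∀ s ∉ Q₁.asIdeal, ∃ b, s * b ∉ Q₁.asIdeal ∧ IsGCIAway R (s * b) := by
    intro Q hQ
    let qA := Q.asIdeal.map θ
    have hqA : qA.IsPrime := Ideal.map_isPrime_of_surjective hθsurj hQ
    have hqAQ : ∀ x, θ x ∈ qA ↔ x ∈ Q.asIdeal := fun x => by
      rw [← Ideal.mem_comap, Ideal.comap_map_of_surjective θ hθsurj, ← RingHom.ker_eq_comap_bot,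
        sup_eq_left.mpr hQ]
    let q₀ : Ideal (MvPolynomial (Fin n) (R ⧸ I)) := qA.comap φ₀.toRingHom
    have hq₀ : q₀.IsPrime := inferInstanceAs (qA.comap φ₀.toRingHom).IsPrime
    have hp₀ : (q₀.comap MvPolynomial.C).IsPrime := inferInstance
    obtain ⟨G₀, hG₀, f', hf'I, ⟨h₀, hhG, hh₀⟩, hfn, hdim⟩ :=
      Groth.Syntomic.exists_equations φ₀ hφ₀ hI₀ (q₀.comap MvPolynomial.C)
        (hfib ⟨_, hp₀⟩) q₀ rfl fun x hx => by
          show φ₀ x ∈ qA
          rw [show φ₀ x = 0 from hx]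
          exact zero_mem _
    have hh₀q : φ₀ h₀ ∉ qA := fun h1 => hG₀ (Ideal.mem_of_dvd _ hhG h1)
    have hf'eq : Ideal.ofList f' = Ideal.span (Set.range f'.get) := by
      rw [← Groth.Calg5.RelGCI.ofList_ofFn, List.ofFn_get]
    choose β hβ using fun i => (Ideal.mem_span_range_iff_exists_fun).1
      (hf'eq ▸ hh₀ (f₀ i) (hf₀0 i))
    choose γ hγ using fun l => (Ideal.mem_span_range_iff_exists_fun).1
      (show f'.get l ∈ Ideal.span (Set.range f₀) from hJ₀.le (hf'I (Ideal.subset_span (List.get_mem f' l))))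
    choose β' hβ' using fun i l => hq (β i l)
    choose γ' hγ' using fun l j => hq (γ l j)
    obtain ⟨h₁, hh₁⟩ := hq h₀
    obtain ⟨G₁, hG₁⟩ := hq G₀
    let B : Matrix (Fin m) (Fin f'.length) U := Matrix.of fun i l => a (β' i l)
    let Γ : Matrix (Fin f'.length) (Fin m) U := Matrix.of fun l j => a (γ' l j)
    let W : Matrix (Fin m) (Fin m) U := a h₁ • (1 : Matrix (Fin m) (Fin m) U) - B * Γ
    let N : Matrix (Fin m) (Fin m) U := a h₁ • (1 : Matrix (Fin m) (Fin m) U) - W * E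
    let z : Fin f'.length → U := Γ *ᵥ v
    have hNv : N *ᵥ v = B *ᵥ z := by
      simp only [N, W, z, Matrix.sub_mulVec, ← Matrix.mulVec_mulVec, hvE]
      abel
    let δ := N.det
    have hδv : ∀ i, δ * v i ∈ Ideal.span (Set.range z) := fun i => by
      have h1 := congrFun (congrArg (fun w => N.adjugate *ᵥ w) hNv) i
      simp only [Matrix.mulVec_mulVec, Matrix.adjugate_mul, Matrix.smul_mulVec,
        Matrix.one_mulVec, Pi.smul_apply, smul_eq_mul] at h1
      rw [h1]
      simp only [Matrix.mulVec, dotProduct]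
      exact Ideal.sum_mem _ fun l _ => Ideal.mul_mem_left _ _ (Ideal.subset_span (Set.mem_range_self (f := z) l))
    have hψN : N.map ψ = φ₀ h₀ • (1 : Matrix (Fin m) (Fin m) A₀) := by
      have hWE : (W * E).map ψ = 0 := by
        let W₀ : Matrix (Fin m) (Fin m) (MvPolynomial (Fin n) (R ⧸ I)) :=
          h₀ • (1 : Matrix (Fin m) (Fin m) (MvPolynomial (Fin n) (R ⧸ I))) - Matrix.of β * Matrix.of γ
        have hW₀ : W.map ψ = W₀.map φ₀ := by
          ext i j
          simp only [W, W₀, B, Γ, Matrix.map_apply, Matrix.sub_apply, Matrix.smul_apply, Matrix.mul_apply,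
            Matrix.of_apply, Matrix.one_apply, smul_eq_mul, mul_ite, mul_one, mul_zero, map_sub, map_sum,
            map_mul, hψa, hβ', hγ']
          congr 1
          split_ifs <;> simp [hψa, hh₁]
        ext i l
        rw [Matrix.map_mul, hW₀, hEψ, ← Matrix.map_mul]
        refine hE₀K (W₀ i) ?_ l
        have h0 : ∑ j, W₀ i j * f₀ j = 0 := by
          simp only [W₀, Matrix.sub_apply, Matrix.smul_apply, Matrix.mul_apply, Matrix.of_apply,
            Matrix.one_apply, smul_eq_mul, mul_ite, mul_one, mul_zero, sub_mul, Finset.sum_sub_distrib,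
            ite_mul, zero_mul, Finset.sum_ite_eq, Finset.mem_univ, if_true, Finset.sum_mul]
          rw [Finset.sum_comm, sub_eq_zero, ← hβ i]
          refine Finset.sum_congr rfl fun l _ => ?_
          rw [← hγ l, Finset.mul_sum]
          exact Finset.sum_congr rfl fun j _ => (mul_assoc _ _ _).symm
        rw [h0]
        exact zero_mem _
      ext i j
      have h2 : ψ ((W * E) i j) = 0 := congrFun (congrFun hWE i) j
      simp only [N, Matrix.map_apply, Matrix.sub_apply, map_sub, h2, sub_zero, Matrix.smul_apply,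
        Matrix.one_apply, smul_eq_mul, mul_ite, mul_one, mul_zero]
      split_ifs <;> simp [hψa, hh₁]
    have hψδ : ψ δ = φ₀ h₀ ^ m := by
      show ψ N.det = _
      rw [AlgHom.map_det]
      show (N.map ψ).det = _
      rw [hψN]
      simp
    choose z' hz' using fun l => hφU (z l)
    obtain ⟨δ', hδ'⟩ := hφU δ
    obtain ⟨τ, hτ⟩ := hφU (h * a G₁)
    let L := List.ofFn g ++ List.ofFn z'
    have hzS : ∀ l, z l ∈ S := fun l => by
      simp only [z, Matrix.mulVec, dotProduct]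
      exact Ideal.sum_mem _ fun j _ => Ideal.mul_mem_left _ _ (Ideal.subset_span (Set.mem_range_self (f := v) j))
    have hLker : Ideal.ofList L ≤ RingHom.ker φC.toRingHom := by
      rw [Ideal.ofList_append, Groth.Calg5.RelGCI.ofList_ofFn, Groth.Calg5.RelGCI.ofList_ofFn]
      refine sup_le (Ideal.span_le.2 ?_) (Ideal.span_le.2 ?_)
      · rintro _ ⟨i, rfl⟩
        have h1 : φU (g i) = 0 := hkU.ge (Ideal.subset_span (Set.mem_range_self i))
        show mkC (φU (g i)) = 0
        rw [h1, map_zero]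
      · rintro _ ⟨l, rfl⟩
        show mkC (φU (z' l)) = 0
        rw [hz']
        exact Ideal.Quotient.eq_zero_iff_mem.2 (hzS l)
    have hLh : ∀ x ∈ RingHom.ker φC.toRingHom, δ' * τ * x ∈ Ideal.ofList L := by
      intro x hx
      rw [mul_comm δ' τ, mul_assoc]
      refine Ideal.mul_mem_left _ _ ?_
      have h1 : φU x ∈ S := Ideal.Quotient.eq_zero_iff_mem.1 hx
      have h2 : δ * φU x ∈ (Ideal.span (Set.range z')).map φU.toRingHom := by
        rw [Ideal.map_span, ← Set.range_comp, show (φU.toRingHom : _ → U) ∘ z' = z from funext hz']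
        refine (Ideal.span_le (I := Submodule.comap (LinearMap.mulLeft U δ) (Ideal.span (Set.range z)))).2
          ?_ h1
        rintro _ ⟨i, rfl⟩
        exact hδv i
      obtain ⟨y, hy, hyx⟩ := (Ideal.mem_map_iff_of_surjective φU.toRingHom hφU).1 h2
      have h3 : δ' * x - y ∈ RingHom.ker φU.toRingHom := by
        rw [RingHom.mem_ker, map_sub, map_mul, show φU.toRingHom δ' = δ from hδ', hyx]
        exact sub_self _
      rw [hkU] at h3
      rw [Ideal.ofList_append, Groth.Calg5.RelGCI.ofList_ofFn, Groth.Calg5.RelGCI.ofList_ofFn,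
        ← sub_add_cancel (δ' * x) y]
      exact Submodule.add_mem_sup h3 hy
    have hθτ : θ (φC (δ' * τ)) = φ₀ h₀ ^ m * φ₀ G₀ := by
      show θ (mkC (φU (δ' * τ))) = _
      rw [hθ, map_mul, hδ', hτ, map_mul, map_mul, hψh, one_mul, hψδ, hψa, hG₁]
    have hτQ : φC (δ' * τ) ∉ Q.asIdeal := by
      rw [← hqAQ, hθτ]
      exact fun h1 => (hqA.mem_or_mem h1).elim (fun h2 => hh₀q (hqA.mem_of_pow_mem _ h2)) hG₀
    refine exists_open_isGCIAway φC hφC L hLker (δ' * τ) hLh (by simp [L]; omega) Q hτQ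
      (Q.asIdeal.comap (algebraMap R (U ⧸ S))) rfl ?_
    -- the fibre through `Q` lives over `A₀`
    let B₀ := Localization.Away (φ₀ G₀)
    have hfp : Algebra.FiniteType (R ⧸ I) A₀ := .of_surjective φ₀ hφ₀
    have : Algebra.FiniteType (R ⧸ I) B₀ := hfp.trans inferInstance
    obtain ⟨W₀, -, hW₀p, hW₀tr⟩ :=
      Groth.FibreDim.exists_open_trdeg_le (B := B₀) ⟨_, hp₀⟩ (n - f'.length) hdim
    have hlenL : k + n - L.length = n - f'.length := by simp [L]; omega
    rw [hlenL]
    have : Algebra.FiniteType R (U ⧸ S) := .of_surjective φC hφC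
    have : Algebra.FiniteType R (Localization.Away (φC (δ' * τ))) :=
      (inferInstance : Algebra.FiniteType R (U ⧸ S)).trans inferInstance
    refine ringKrullDim_fiber_le_of_trdeg' _ _ fun K L' _ _ _ χ ψb hcomp hχp _ hgen => ?_
    let T := Localization.Away (φC (δ' * τ))
    let ψC : U ⧸ S →+* L' := ψb.comp (algebraMap (U ⧸ S) T)
    have hψCτ : ψC (φC (δ' * τ)) ≠ 0 :=
      ((IsLocalization.Away.algebraMap_isUnit (S := T) (φC (δ' * τ))).map ψb).ne_zero
    have hψCdvd : ∀ x, x ∣ φC (δ' * τ) → ψC x ≠ 0 := fun x hx h1 =>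
      hψCτ (zero_dvd_iff.1 (h1 ▸ map_dvd ψC hx))
    have hψCR : ∀ r, ψC (algebraMap R (U ⧸ S) r) = algebraMap K L' (χ r) := fun r => by
      rw [hcomp, RingHom.comp_apply, ← IsScalarTower.algebraMap_apply]
    have hτdvd : φC (δ' * τ) = mkC h * mkC (a G₁) * φC δ' := by
      rw [map_mul, show φC τ = mkC (φU τ) from rfl, hτ, map_mul]
      ring
    have hkill : RingHom.ker θ ≤ RingHom.ker ψC := fun x hx => by
      have h1 : I.map (algebraMap R (U ⧸ S)) ≤ RingHom.ker ψC := Ideal.map_le_iff_le_comap.2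
        fun r hr => by
          rw [Ideal.mem_comap, RingHom.mem_ker, hψCR, (hχp r).2, map_zero]
          rw [Ideal.mem_comap, ← hqAQ, hθR, Ideal.Quotient.eq_zero_iff_mem.2 hr, map_zero]
          exact zero_mem _
      have h2 : ψC (mkC h * x) = 0 := h1 (hθker x hx)
      rw [map_mul] at h2
      exact (mul_eq_zero.1 h2).resolve_left
        (hψCdvd _ ⟨mkC (a G₁) * φC δ', by rw [hτdvd]; ring⟩)
    let ψ₀ : A₀ →+* L' := RingHom.liftOfSurjective θ hθsurj ⟨ψC, hkill⟩
    have hψ₀ : ∀ x, ψ₀ (θ x) = ψC x := fun x =>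
      RingHom.liftOfRightInverse_comp_apply θ _ _ ⟨ψC, hkill⟩ x
    have hG₀ne : ψ₀ (φ₀ G₀) ≠ 0 := by
      rw [← hG₁, ← hψa, ← hθ, hψ₀]
      exact hψCdvd _ ⟨mkC h * φC δ', by rw [hτdvd]; ring⟩
    let ψB : B₀ →+* L' := IsLocalization.Away.lift (φ₀ G₀) (isUnit_iff_ne_zero.2 hG₀ne)
    have hψB : ∀ x, ψB (algebraMap A₀ B₀ x) = ψ₀ x := IsLocalization.Away.lift_eq _ _
    have hχ₀R : ∀ r, ψ₀ (algebraMap (R ⧸ I) A₀ (Ideal.Quotient.mk I r)) = algebraMap K L' (χ r) :=
      fun r => by rw [← hθR, hψ₀, hψCR]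
    let χ₀ : R ⧸ I →+* K := Ideal.Quotient.lift I χ fun r hr => (map_eq_zero (algebraMap K L')).1 (by
      rw [← hχ₀R, Ideal.Quotient.eq_zero_iff_mem.2 hr, map_zero, map_zero])
    let Q₀ : PrimeSpectrum B₀ := ⟨RingHom.ker ψB, RingHom.ker_isPrime ψB⟩
    have hQ₀ : Q₀ ∈ W₀ := hW₀p Q₀ (PrimeSpectrum.ext (Ideal.ext fun r => by
      obtain ⟨r, rfl⟩ := Ideal.Quotient.mk_surjective r
      show ψB (algebraMap (R ⧸ I) B₀ _) = 0 ↔ φ₀ (MvPolynomial.C (Ideal.Quotient.mk I r)) ∈ qA
      rw [IsScalarTower.algebraMap_apply (R ⧸ I) A₀ B₀, hψB, hχ₀R, map_eq_zero, hχp, Ideal.mem_comap,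
        ← hqAQ, hθR, show φ₀ (MvPolynomial.C (Ideal.Quotient.mk I r)) = algebraMap (R ⧸ I) A₀ _ from
          φ₀.commutes _]))
    refine hW₀tr Q₀ hQ₀ K L' χ₀ ψB (fun r => ?_) (fun y => ?_) rfl
    · obtain ⟨r, rfl⟩ := Ideal.Quotient.mk_surjective r
      rw [IsScalarTower.algebraMap_apply (R ⧸ I) A₀ B₀, hψB, hχ₀R]
      rfl
    · obtain ⟨x, x', hx', rfl⟩ := hgen y
      obtain ⟨i, x₀, hx⟩ := IsLocalization.Away.surj (φC (δ' * τ)) x
      obtain ⟨j, y₀, hy⟩ := IsLocalization.Away.surj (φC (δ' * τ)) x'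
      have h1 := congrArg ψb hx
      have h2 := congrArg ψb hy
      rw [map_mul, ← map_pow (algebraMap (U ⧸ S) T)] at h1 h2
      change ψb x * ψC _ = ψC x₀ at h1
      change ψb x' * ψC _ = ψC y₀ at h2
      have hne : ∀ i, ψC (φC (δ' * τ) ^ i) ≠ 0 := fun i => by
        rw [map_pow]; exact pow_ne_zero _ hψCτ
      refine ⟨algebraMap A₀ B₀ (θ (x₀ * φC (δ' * τ) ^ j)),
        algebraMap A₀ B₀ (θ (φC (δ' * τ) ^ i * y₀)), ?_, ?_⟩
      · rw [hψB, hψ₀, map_mul ψC, ← h2]
        exact mul_ne_zero (hne i) (mul_ne_zero hx' (hne j))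
      · have hi := hne i
        have hj := hne j
        rw [hψB, hψB, hψ₀, hψ₀, map_mul ψC, map_mul ψC, ← h1, ← h2]
        field_simp
  -- an open neighbourhood of the special fibre
  let T : Set (U ⧸ S) := {t | ∀ Q₁ ∈ PrimeSpectrum.basicOpen t, ∀ s ∉ Q₁.asIdeal,
    ∃ b, s * b ∉ Q₁.asIdeal ∧ IsGCIAway R (s * b)}
  have hT : Ideal.span T ⊔ RingHom.ker θ = ⊤ := by
    by_contra hne
    obtain ⟨M, hM, hle⟩ := Ideal.exists_le_maximal _ hne
    obtain ⟨V, hV, hMV, hVp⟩ := hloc ⟨M, hM.isPrime⟩ (le_sup_right.trans hle)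
    obtain ⟨_, ⟨t, rfl⟩, htM, htV⟩ :=
      PrimeSpectrum.isTopologicalBasis_basic_opens.exists_subset_of_mem_open hMV hV
    exact htM (le_sup_left.trans hle (Ideal.subset_span (fun Q₁ hQ₁ => hVp Q₁ (htV hQ₁))))
  obtain ⟨t₁, ht₁, t₂, ht₂, ht12⟩ := Submodule.mem_sup.1 (hT ▸ Submodule.mem_top : (1 : U ⧸ S) ∈ _)
  have hθt : θ (mkC h * t₁) = 1 := by
    rw [map_mul, hθ, hψh, one_mul, ← map_one θ, ← ht12, map_add, show θ t₂ = 0 from ht₂, add_zero]
  let t := mkC h * t₁
  let A := Localization.Away t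
  have hGCI : Groth.Syntomic.IsLocRelGCI R A := by
    intro Q' hQ'
    let Q₁ : PrimeSpectrum (U ⧸ S) := PrimeSpectrum.comap (algebraMap _ A) ⟨Q', hQ'⟩
    have ht : t ∉ Q₁.asIdeal := fun h1 =>
      hQ'.ne_top (Ideal.eq_top_of_isUnit_mem _ h1 (IsLocalization.Away.algebraMap_isUnit t))
    have ht₁Q : ¬ Ideal.span T ≤ Q₁.asIdeal := fun h1 =>
      ht (Ideal.mul_mem_left _ _ (h1 ht₁))
    obtain ⟨s, hsT, hsQ⟩ := Set.not_subset.1 (fun h1 => ht₁Q (Ideal.span_le.2 h1))
    obtain ⟨b, hb, N, c, G, hG, ⟨e⟩⟩ := hsT Q₁ hsQ t ht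
    refine ⟨algebraMap _ A b, fun h1 => hb (Ideal.mul_mem_left _ _ h1), N, c, G, hG,
      ⟨e.trans ?_⟩⟩
    have : IsLocalization.Away (t * b) (Localization.Away (algebraMap (U ⧸ S) A b)) :=
      IsLocalization.Away.mul' A _ t b
    exact (IsLocalization.algEquiv (Submonoid.powers (t * b)) (Localization.Away (t * b))
      (Localization.Away (algebraMap (U ⧸ S) A b))).restrictScalars R
  refine ⟨A, inferInstance, inferInstance, hGCI.isSyntomic, ?_⟩
  -- reduction modulo `I`
  let θA : A →+* A₀ := IsLocalization.Away.lift t (show IsUnit (θ t) by rw [hθt]; exact isUnit_one)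
  have hθA : ∀ x, θA (algebraMap (U ⧸ S) A x) = θ x := IsLocalization.Away.lift_eq _ _
  have hθAsurj : Function.Surjective θA := fun y => by
    obtain ⟨x, rfl⟩ := hθsurj y; exact ⟨_, hθA x⟩
  have hθAR : ∀ r, θA (algebraMap R A r) = algebraMap (R ⧸ I) A₀ (Ideal.Quotient.mk I r) := fun r => by
    rw [IsScalarTower.algebraMap_apply R (U ⧸ S) A, hθA, hθR]
  have hθAker : RingHom.ker θA = I.map (algebraMap R A) := by
    refine le_antisymm (fun x hx => ?_) (Ideal.map_le_iff_le_comap.2 fun r hr => ?_)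
    · obtain ⟨i, u, hu⟩ := IsLocalization.Away.surj t x
      have hu0 : θ u = 0 := by
        rw [← hθA, ← hu, map_mul, show θA x = 0 from hx, zero_mul]
      have hm := Ideal.mem_map_of_mem (algebraMap (U ⧸ S) A) (hθker u hu0)
      rw [map_mul, Ideal.map_map, ← IsScalarTower.algebraMap_eq] at hm
      have hht : IsUnit (algebraMap (U ⧸ S) A t) := IsLocalization.Away.algebraMap_isUnit t
      have hu2 : IsUnit (algebraMap (U ⧸ S) A (mkC h)) :=
        isUnit_of_dvd_unit (map_dvd _ (dvd_mul_right _ _)) hht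
      rw [Ideal.unit_mul_mem_iff_mem _ hu2, ← hu] at hm
      exact (Ideal.mul_unit_mem_iff_mem _ (hht.pow i)).1 hm
    · rw [Ideal.mem_comap, RingHom.mem_ker, hθAR, Ideal.Quotient.eq_zero_iff_mem.2 hr, map_zero]
  let e : (A ⧸ I.map (algebraMap R A)) ≃+* A₀ :=
    (Ideal.quotEquivOfEq hθAker.symm).trans (RingHom.quotientKerEquivOfSurjective hθAsurj)
  refine ⟨AlgEquiv.ofRingEquiv (f := e) fun r => ?_⟩
  obtain ⟨r, rfl⟩ := Ideal.Quotient.mk_surjective r
  exact hθAR r

end Groth.SyntLift
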