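import Groth.Agent.SyntLift.Conormal
import Groth.Agent.SyntLift.Local
import Mathlib.RingTheory.Smooth.Basic
import Mathlib.RingTheory.Nakayama
import Mathlib.RingTheory.AlgebraicIndependent.TranscendenceBasis

/-!
# A syntomic algebra is a retract of a smooth algebra over it which is a relative global complete
intersection
-/

set_option autoImplicit false
set_option linter.style.haveILetI false

universe u

open Matrix

namespace Groth.SyntLift

/-- An idempotent matrix modulo `J ^ 2` presenting the conormal module. -/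
theorem exists_conormal_idempotent_sq {P : Type u} [CommRing P] {J : Ideal P} {m : ℕ} (f : Fin m → P)
    (hf : J = Ideal.span (Set.range f)) (hK : LCI.IsKoszulRegularIdeal J) :
    ∃ E : Matrix (Fin m) (Fin m) P, (∀ i, f i - ∑ j, E i j * f j ∈ J ^ 2) ∧
      (∀ c : Fin m → P, ∑ i, c i * f i ∈ J ^ 2 → ∀ j, ∑ i, c i * E i j ∈ J) ∧
      ∀ i j, (E * E - E) i j ∈ J ^ 2 := by
  obtain ⟨E, h1, h2⟩ := exists_conormal_idempotent f hf hK
  have hfJ : ∀ i, f i ∈ J := fun i => hf ▸ Ideal.subset_span (Set.mem_range_self i)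
  have hD : ∀ i j, (E * E - E) i j ∈ J := fun i l => by
    have h := h2 (((1 : Matrix (Fin m) (Fin m) P) - E) i) (by
      simpa [sub_mul, Matrix.one_apply] using h1 i) l
    rw [show ∑ j, ((1 : Matrix (Fin m) (Fin m) P) - E) i j * E j l = ((1 - E) * E) i l from rfl,
      Matrix.sub_mul, Matrix.one_mul, ← neg_sub, Matrix.neg_apply, neg_mem_iff] at h
    exact h
  let E' := 3 * (E * E) - 2 * (E * E * E)
  have hE' : E' = E - (E * E - E) * (2 * E - 1) := by simp only [E']; noncomm_ring
  have hd : ∀ i j, (E' - E) i j ∈ J := fun i j => by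
    rw [hE', sub_sub_cancel_left, Matrix.neg_apply, neg_mem_iff, Matrix.mul_apply]
    exact Ideal.sum_mem _ fun l _ => Ideal.mul_mem_right _ _ (hD i l)
  refine ⟨E', fun i => ?_, fun c hc j => ?_, fun i j => ?_⟩
  · have : ∑ j, (E' - E) i j * f j ∈ J ^ 2 := Ideal.sum_mem _ fun j _ => by
      rw [pow_two]; exact Ideal.mul_mem_mul (hd i j) (hfJ j)
    convert sub_mem (h1 i) this using 1
    simp [sub_mul, Finset.sum_sub_distrib]
  · have : ∑ i, c i * (E' - E) i j ∈ J := Ideal.sum_mem _ fun i _ => Ideal.mul_mem_left _ _ (hd i j)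
    convert add_mem (h2 c hc j) this using 1
    rw [← Finset.sum_add_distrib]
    exact Finset.sum_congr rfl fun i _ => by rw [Matrix.sub_apply]; ring
  · have : E' * E' - E' = (E * E - E) * (E * E - E) * (4 * (E * E) - 4 * E - 3) := by
      simp only [E']; noncomm_ring
    rw [this, Matrix.mul_apply]
    refine Ideal.sum_mem _ fun l _ => Ideal.mul_mem_right _ _ ?_
    rw [Matrix.mul_apply, pow_two]
    exact Ideal.sum_mem _ fun l' _ => Ideal.mul_mem_mul (hD _ _) (hD _ _)

/-- Transcendence degree of a field generated by finitely many elements over an intermediate field. -/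
theorem trdeg_le_of_generated {K L : Type u} [Field K] [Field L] [Algebra K L]
    (L' : IntermediateField K L) {c : ℕ} (u : Fin c → L)
    (h : ∀ z : L, ∃ a ∈ Algebra.adjoin L' (Set.range u), ∃ b ∈ Algebra.adjoin L' (Set.range u),
      b ≠ 0 ∧ z = a / b) {d : ℕ} (hd : Algebra.trdeg K L' ≤ (d : Cardinal.{u})) :
    Algebra.trdeg K L ≤ ((d + c : ℕ) : Cardinal.{u}) := by
  have halg : Algebra.IsAlgebraic (Algebra.adjoin L' (Set.range u)) L := ⟨fun z => by
    obtain ⟨a, ha, b, hb, hb0, rfl⟩ := h z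
    refine ⟨Polynomial.C ⟨b, hb⟩ * Polynomial.X - Polynomial.C ⟨a, ha⟩, fun h0 => hb0 ?_, ?_⟩
    · simpa using congrArg (fun p => ((p.coeff 1 : Algebra.adjoin L' (Set.range u)) : L)) h0
    · simp only [map_sub, map_mul, Polynomial.aeval_C, Polynomial.aeval_X]
      rw [sub_eq_zero]
      show b * (a / b) = a
      field_simp⟩
  have h2 : Algebra.trdeg L' L ≤ (c : Cardinal.{u}) := by
    refine (Algebra.IsAlgebraic.trdeg_le_cardinalMk L' (Set.range u)).trans ?_
    have := Cardinal.mk_range_le_lift (f := u)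
    rw [Cardinal.lift_uzero, Cardinal.mk_fin, Cardinal.lift_natCast] at this
    exact this
  rw [← trdeg_add_eq K L', Nat.cast_add]
  exact add_le_add hd h2

/-- Nakayama: an ideal generated by `S` modulo its square is generated by `S` near its zero set. -/
theorem exists_sub_one_mem_mul_le {P : Type u} [CommRing P] (S J : Ideal P) (hJ : J.FG) (hSJ : S ≤ J)
    (hle : J ≤ S ⊔ J ^ 2) : ∃ a, a - 1 ∈ J ∧ ∀ x ∈ J, a * x ∈ S := by
  let mk := Ideal.Quotient.mk S
  obtain ⟨r, hr1, hr⟩ := Submodule.exists_sub_one_mem_and_smul_eq_zero_of_fg_of_le_smul (J.map mk)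
    (J.map mk) (Ideal.FG.map hJ mk) (by
      have := Ideal.map_mono (f := mk) hle
      rw [Ideal.map_sup, show S.map mk = ⊥ from Ideal.map_quotient_self _, bot_sup_eq, Ideal.map_pow,
        pow_two] at this
      exact this)
  obtain ⟨a, rfl⟩ := Ideal.Quotient.mk_surjective r
  refine ⟨a, ?_, fun x hx => Ideal.Quotient.eq_zero_iff_mem.1 (by
    rw [map_mul]; exact hr _ (Ideal.mem_map_of_mem mk hx))⟩
  obtain ⟨z, hz, hz'⟩ := (Ideal.mem_map_iff_of_surjective mk Ideal.Quotient.mk_surjective).1 hr1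
  have : a - 1 - z ∈ S := Ideal.Quotient.eq_zero_iff_mem.1 (by
    rw [map_sub, map_sub, map_one]; exact sub_eq_zero.2 hz'.symm)
  have h2 := add_mem (hSJ this) hz
  rwa [sub_add_cancel] at h2

theorem exists_smooth_retract {R A : Type u} [CommRing R] [CommRing A] [Algebra R A]
    (h : Synt.IsSyntomic R A) :
    ∃ (n c : ℕ) (F : Fin c → MvPolynomial (Fin n) R), Synt.IsRelGCI R n c F ∧
      Module.Flat R (Synt.RelGCIRing R n c F) ∧
      ∃ (_ : Algebra A (Synt.RelGCIRing R n c F)) (_ : IsScalarTower R A (Synt.RelGCIRing R n c F)),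
        Algebra.Smooth A (Synt.RelGCIRing R n c F) ∧
        ∃ ρ : Synt.RelGCIRing R n c F →ₐ[R] A, ∀ a : A, ρ (algebraMap A (Synt.RelGCIRing R n c F) a) = a := by
  classical
  obtain ⟨-, n, φ₀, hφ₀, hK⟩ := (Groth.Syntomic.isSyntomic_iff.1 h).2
  obtain ⟨hflat, -, hfib⟩ := h
  have hI₀ := Groth.KoszulLCI.fg_of_isKoszulRegularIdeal hK
  obtain ⟨m, f, hf⟩ := Submodule.fg_iff_exists_fin_generating_family.1 hI₀
  set J : Ideal (MvPolynomial (Fin n) R) := RingHom.ker φ₀.toRingHom with hJdef
  have hJ : J = Ideal.span (Set.range f) := hf.symm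
  obtain ⟨E, hEf, hEK, hEE⟩ := exists_conormal_idempotent_sq f hJ hK
  -- the smooth algebra
  let EA : Matrix (Fin m) (Fin m) A := E.map φ₀
  have hEA : EA * EA = EA := by
    ext i j
    have h1 : φ₀ ((E * E - E) i j) = 0 := Ideal.pow_le_self two_ne_zero (hEE i j)
    rw [Matrix.sub_apply, map_sub, sub_eq_zero] at h1
    rw [show EA * EA = (E * E).map φ₀ from (Matrix.map_mul (f := φ₀)).symm]
    exact h1
  let M : Matrix (Fin m) (Fin m) (MvPolynomial (Fin m) A) := (1 - EA).map MvPolynomial.C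
  let Y : Fin m → MvPolynomial (Fin m) A := fun j => MvPolynomial.X j
  let L : Ideal (MvPolynomial (Fin m) A) := Ideal.span (Set.range (M *ᵥ Y))
  let π : MvPolynomial (Fin m) A →ₐ[A] MvPolynomial (Fin m) A :=
    MvPolynomial.aeval (EA.map MvPolynomial.C *ᵥ Y)
  have hπM : ∀ i, π ((M *ᵥ Y) i) = 0 := fun i => by
    have h1 : π ((M *ᵥ Y) i) = (M *ᵥ (EA.map MvPolynomial.C *ᵥ Y)) i := by
      simp [π, M, Y, Matrix.mulVec, dotProduct, MvPolynomial.algebraMap_eq]
    rw [h1, Matrix.mulVec_mulVec, ← Matrix.map_mul (f := MvPolynomial.C), Matrix.sub_mul, Matrix.one_mul, hEA,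
      sub_self, Matrix.map_zero _ (map_zero _), Matrix.zero_mulVec]
    rfl
  let s : (MvPolynomial (Fin m) A ⧸ L) →ₐ[A] MvPolynomial (Fin m) A := Ideal.Quotient.liftₐ L π
    fun x hx => (Ideal.span_le.2 (by rintro _ ⟨i, rfl⟩; exact hπM i) : L ≤ RingHom.ker π) hx
  let mkL : MvPolynomial (Fin m) A →ₐ[A] (MvPolynomial (Fin m) A ⧸ L) := Ideal.Quotient.mkₐ A L
  have hEy : ∀ j, mkL ((EA.map MvPolynomial.C *ᵥ Y) j) = mkL (Y j) := fun j => by
    refine Ideal.Quotient.eq.2 ?_
    rw [← neg_mem_iff, neg_sub]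
    refine Ideal.subset_span ⟨j, ?_⟩
    simp [M, Y, Matrix.sub_mulVec, Matrix.map_sub _ (map_sub (MvPolynomial.C (σ := Fin m) (R := A))),
      Matrix.map_one]
  have hsec : mkL.comp s = AlgHom.id A (MvPolynomial (Fin m) A ⧸ L) :=
    Ideal.Quotient.algHom_ext A (MvPolynomial.algHom_ext fun j => by
      show mkL (π (MvPolynomial.X j)) = mkL (MvPolynomial.X j)
      rw [show π (MvPolynomial.X j) = (EA.map MvPolynomial.C *ᵥ Y) j from MvPolynomial.aeval_X _ _]
      exact hEy j)
  have hLfg : L.FG := Submodule.fg_span (Set.finite_range _)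
  have hfp : Algebra.FinitePresentation A (MvPolynomial (Fin m) A ⧸ L) :=
    Algebra.FinitePresentation.quotient hLfg
  have hfs : Algebra.FormallySmooth A (MvPolynomial (Fin m) A ⧸ L) :=
    Algebra.FormallySmooth.of_split mkL ((Ideal.Quotient.mkₐ A _).comp s) (by
      refine Ideal.Quotient.algHom_ext A (MvPolynomial.algHom_ext fun j => ?_)
      show mkL (s (mkL (MvPolynomial.X j))) = _
      exact AlgHom.congr_fun hsec _)
  let ρC : (MvPolynomial (Fin m) A ⧸ L) →ₐ[A] A := Ideal.Quotient.liftₐ L (MvPolynomial.aeval 0)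
    fun x hx => (Ideal.span_le.2 (by
      rintro _ ⟨i, rfl⟩
      simp [M, Y, Matrix.mulVec, dotProduct]) : L ≤ RingHom.ker (MvPolynomial.aeval (0 : Fin m → A))) hx
  -- its presentation over `R`
  let P := MvPolynomial (Fin m) (MvPolynomial (Fin n) R)
  let φA : MvPolynomial (Fin m) (MvPolynomial (Fin n) R) →ₐ[R] MvPolynomial (Fin m) A :=
    MvPolynomial.mapAlgHom φ₀
  let φ₁ : MvPolynomial (Fin m) (MvPolynomial (Fin n) R) →ₐ[R] (MvPolynomial (Fin m) A ⧸ L) :=
    (mkL.restrictScalars R).comp φA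
  have hφA : Function.Surjective φA := MvPolynomial.map_surjective _ hφ₀
  have hφ₁ : Function.Surjective φ₁ := Ideal.Quotient.mk_surjective.comp hφA
  let N : Matrix (Fin m) (Fin m) (MvPolynomial (Fin m) (MvPolynomial (Fin n) R)) :=
    (1 - E).map MvPolynomial.C
  let X : Fin m → MvPolynomial (Fin m) (MvPolynomial (Fin n) R) := fun j => MvPolynomial.X j
  let fC : Fin m → MvPolynomial (Fin m) (MvPolynomial (Fin n) R) := fun j => MvPolynomial.C (f j)
  let g : Fin m → MvPolynomial (Fin m) (MvPolynomial (Fin n) R) := fC + N *ᵥ X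
  let J' : Ideal (MvPolynomial (Fin m) (MvPolynomial (Fin n) R)) := RingHom.ker φ₁.toRingHom
  have hNX : ∀ i, φA ((N *ᵥ X) i) = (M *ᵥ Y) i := fun i => by
    have hN : N.map φA = M := by
      ext a b
      simp [N, M, φA, EA, Matrix.map_apply, Matrix.one_apply]
    rw [← hN]
    exact (RingHom.map_mulVec φA.toRingHom N X i).trans
      (congrArg (fun w => (N.map φA *ᵥ w) i) (funext fun j => MvPolynomial.map_X _ j))
  have hfJ' : ∀ i, fC i ∈ J' := fun i => by
    show mkL (φA (MvPolynomial.C (f i))) = 0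
    rw [show φA (MvPolynomial.C (f i)) = MvPolynomial.C (φ₀ (f i)) from MvPolynomial.map_C _ _,
      show φ₀ (f i) = 0 from (hJ ▸ Ideal.subset_span (Set.mem_range_self i) : f i ∈ J), map_zero, map_zero]
  have hlJ' : ∀ i, (N *ᵥ X) i ∈ J' := fun i => by
    show mkL (φA ((N *ᵥ X) i)) = 0
    rw [hNX]
    exact Ideal.Quotient.eq_zero_iff_mem.2 (Ideal.subset_span ⟨i, rfl⟩)
  have hker : J' = Ideal.span (Set.range fC) ⊔ Ideal.span (Set.range (N *ᵥ X)) := by
    refine le_antisymm (fun x hx => ?_) (sup_le (Ideal.span_le.2 ?_) (Ideal.span_le.2 ?_))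
    · have h1 : φA x ∈ (Ideal.span (Set.range (N *ᵥ X))).map φA.toRingHom := by
        rw [Ideal.map_span, ← Set.range_comp,
          show φA.toRingHom ∘ (N *ᵥ X) = M *ᵥ Y from funext hNX]
        exact Ideal.Quotient.eq_zero_iff_mem.1 hx
      obtain ⟨y, hy, hyx⟩ := (Ideal.mem_map_iff_of_surjective φA.toRingHom hφA).1 h1
      have h2 : x - y ∈ RingHom.ker φA.toRingHom := by
        rw [RingHom.mem_ker, map_sub, hyx]
        exact sub_self _
      have h3 : RingHom.ker φA.toRingHom = Ideal.span (Set.range fC) := by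
        show RingHom.ker (MvPolynomial.map φ₀.toRingHom) = _
        rw [MvPolynomial.ker_map, ← hJdef, hJ, Ideal.map_span, ← Set.range_comp]
        rfl
      rw [h3] at h2
      simpa using Submodule.add_mem_sup h2 hy
    · rintro _ ⟨i, rfl⟩; exact hfJ' i
    · rintro _ ⟨i, rfl⟩; exact hlJ' i
  have hJfg : J'.FG := hker ▸ (Submodule.fg_span (Set.finite_range fC)).sup
    (Submodule.fg_span (Set.finite_range (N *ᵥ X)))
  have hgJ : Ideal.span (Set.range g) ≤ J' := Ideal.span_le.2 (by
    rintro _ ⟨i, rfl⟩; exact add_mem (hfJ' i) (hlJ' i))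
  have hle : J' ≤ Ideal.span (Set.range g) ⊔ J' ^ 2 := by
    have hsq : ∀ x ∈ J ^ 2, (MvPolynomial.C x : MvPolynomial (Fin m) (MvPolynomial (Fin n) R)) ∈ J' ^ 2 := by
      intro x hx
      have := Ideal.mem_map_of_mem (MvPolynomial.C (σ := Fin m)) hx
      rw [Ideal.map_pow] at this
      refine Ideal.pow_right_mono (Ideal.map_le_iff_le_comap.2 ?_) 2 this
      rw [hJ, Ideal.span_le]
      rintro _ ⟨i, rfl⟩
      exact hfJ' i
    have hl : ∀ i, (N *ᵥ X) i ∈ Ideal.span (Set.range g) ⊔ J' ^ 2 := fun i => by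
      have h1 : (N *ᵥ g) i ∈ Ideal.span (Set.range g) := by
        simp only [Matrix.mulVec, dotProduct]
        exact Ideal.sum_mem _ fun j _ => Ideal.mul_mem_left _ _ (Ideal.subset_span (Set.mem_range_self j))
      have h2 : (N *ᵥ fC) i ∈ J' ^ 2 := by
        have : (N *ᵥ fC) i = MvPolynomial.C (f i - ∑ j, E i j * f j) := by
          simp [N, fC, Matrix.mulVec, dotProduct, Matrix.one_apply, sub_mul, map_sum,
            Finset.sum_sub_distrib]
        rw [this]
        exact hsq _ (hEf i)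
      have h3 : ((N * N - N) *ᵥ X) i ∈ J' ^ 2 := by
        have hNN : N * N - N = (E * E - E).map MvPolynomial.C := by
          simp only [N]
          rw [← Matrix.map_mul (f := MvPolynomial.C), ← Matrix.map_sub _ (map_sub _)]
          congr 1
          noncomm_ring
        rw [hNN]
        simp only [Matrix.mulVec, dotProduct]
        exact Ideal.sum_mem _ fun j _ => Ideal.mul_mem_right _ _ (hsq _ (hEE i j))
      have h4 : (N *ᵥ X) i = (N *ᵥ g) i - ((N *ᵥ fC) i + ((N * N - N) *ᵥ X) i) := by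
        simp only [g, Matrix.mulVec_add, Matrix.mulVec_mulVec, Matrix.sub_mulVec, Pi.add_apply, Pi.sub_apply]
        ring
      rw [h4]
      exact sub_mem (Ideal.mem_sup_left h1) (Ideal.mem_sup_right (add_mem h2 h3))
    conv_lhs => rw [hker]
    refine sup_le (Ideal.span_le.2 ?_) (Ideal.span_le.2 ?_)
    · rintro _ ⟨i, rfl⟩
      have : fC i = g i - (N *ᵥ X) i := (add_sub_cancel_right _ _).symm
      rw [this]
      exact sub_mem (Ideal.mem_sup_left (Ideal.subset_span (Set.mem_range_self i))) (hl i)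
    · rintro _ ⟨i, rfl⟩; exact hl i
  -- Nakayama
  obtain ⟨a, ha1, ha⟩ := exists_sub_one_mem_mul_le _ J' hJfg hgJ hle
  have hφa : φ₁ a = 1 := by
    have h1 : φ₁ (a - 1) = 0 := ha1
    rwa [map_sub, map_one, sub_eq_zero] at h1
  -- flatten
  let e : MvPolynomial (Fin (m + n)) R ≃ₐ[R] MvPolynomial (Fin m) (MvPolynomial (Fin n) R) :=
    (MvPolynomial.renameEquiv R finSumFinEquiv.symm).trans (MvPolynomial.sumAlgEquiv R (Fin m) (Fin n))
  let φ : MvPolynomial (Fin (m + n)) R →ₐ[R] (MvPolynomial (Fin m) A ⧸ L) := φ₁.comp e.toAlgHom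
  have hφ : Function.Surjective φ := hφ₁.comp e.surjective
  let l := List.ofFn fun i => e.symm (g i)
  have hle_l : ∀ x, x ∈ Ideal.span (Set.range g) → e.symm x ∈ Ideal.ofList l := fun x hx => by
    have := Ideal.mem_map_of_mem e.symm.toRingHom hx
    rw [Ideal.map_span, ← Set.range_comp] at this
    rw [Groth.Calg5.RelGCI.ofList_ofFn]
    exact this
  have hlI : Ideal.ofList l ≤ RingHom.ker φ.toRingHom := by
    rw [Groth.Calg5.RelGCI.ofList_ofFn, Ideal.span_le]
    rintro _ ⟨i, rfl⟩
    show φ₁ (e (e.symm (g i))) = 0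
    rw [e.apply_symm_apply]
    exact hgJ (Ideal.subset_span (Set.mem_range_self i))
  have hlh : ∀ x ∈ RingHom.ker φ.toRingHom, e.symm a * x ∈ Ideal.ofList l := fun x hx => by
    rw [← e.symm_apply_apply x, ← map_mul]
    exact hle_l _ (ha (e x) hx)
  obtain ⟨F, ⟨eF⟩, -⟩ := Groth.Syntomic.exists_away_presentation φ hφ (e.symm a) _
    (Groth.Syntomic.map_away_eq_ofList _ l hlI (e.symm a) (e.symm a) dvd_rfl hlh)
  have hφea : φ (e.symm a) = 1 := by
    show φ₁ (e (e.symm a)) = 1
    rw [e.apply_symm_apply, hφa]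
  let e₁ : Localization.Away (φ (e.symm a)) ≃ₐ[R] (MvPolynomial (Fin m) A ⧸ L) :=
    have : IsLocalization.Away (φ (e.symm a)) (MvPolynomial (Fin m) A ⧸ L) :=
      IsLocalization.away_of_isUnit_of_bijective _ (by rw [hφea]; exact isUnit_one) Function.bijective_id
    (IsLocalization.algEquiv (Submonoid.powers (φ (e.symm a))) _ _).restrictScalars R
  let eC := eF.trans e₁
  have hGCI : Synt.IsRelGCI R (m + n + 1) _ F := by
    refine isRelGCI_of_dim_le F (by simp [l]) fun p _ => ?_
    refine (ringKrullDim_eq_of_ringEquiv (R := p.Fiber (Synt.RelGCIRing R (m + n + 1) _ F))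
      (S := p.Fiber (MvPolynomial (Fin m) A ⧸ L)) (Algebra.TensorProduct.congr
      (AlgEquiv.refl (R := p.ResidueField) (A₁ := p.ResidueField)) eC).toRingEquiv).le.trans ?_
    have hnum : m + n + 1 - ((l.map (algebraMap _ (Localization.Away (e.symm a)))).length + 1) = n := by
      simp [l]
    rw [hnum]
    have : Algebra.FiniteType R (MvPolynomial (Fin m) A ⧸ L) := .of_surjective φ hφ
    refine ringKrullDim_fiber_le_of_trdeg' p n fun K Λ _ _ _ χ ψ hcomp hχ hK' hgen => ?_
    let ψA : A →+* Λ := ψ.comp (algebraMap A (MvPolynomial (Fin m) A ⧸ L))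
    have hψAR : ∀ r, ψA (algebraMap R A r) = algebraMap K Λ (χ r) := fun r => by
      rw [hcomp, RingHom.comp_apply, ← IsScalarTower.algebraMap_apply]
    let q := (RingHom.ker ψA).comap φ₀.toRingHom
    have hqp : q.IsPrime := Ideal.IsPrime.comap _ (hK := RingHom.ker_isPrime ψA)
    have hqC : q.comap MvPolynomial.C = p := Ideal.ext fun r => by
      show ψA (φ₀ (MvPolynomial.C r)) = 0 ↔ r ∈ p
      rw [show φ₀ (MvPolynomial.C r) = algebraMap R A r from φ₀.commutes r, hψAR, map_eq_zero, hχ]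
    obtain ⟨G, hG, f', hf'I, ⟨h₀, hhG, hh₀⟩, hfn, hdim⟩ :=
      Groth.Syntomic.exists_equations φ₀ hφ₀ hI₀ p (hfib ⟨p, inferInstance⟩) q hqC fun x hx => by
        show ψA (φ₀ x) = 0
        rw [show φ₀ x = 0 from hx, map_zero]
    let B := Localization.Away (φ₀ G)
    have : Algebra.FiniteType R A := .of_surjective φ₀ hφ₀
    have : Algebra.FiniteType R B := (inferInstance : Algebra.FiniteType R A).trans inferInstance
    obtain ⟨W, -, hWp, hWtr⟩ :=
      Groth.FibreDim.exists_open_trdeg_le (B := B) ⟨p, inferInstance⟩ (n - f'.length) hdim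
    have hG' : ψA (φ₀ G) ≠ 0 := hG
    let ψB : B →+* Λ := IsLocalization.Away.lift (φ₀ G) (isUnit_iff_ne_zero.2 hG')
    have hψB : ∀ x, ψB (algebraMap A B x) = ψA x := IsLocalization.Away.lift_eq _ _
    let L' := IntermediateField.adjoin K (Set.range ψA)
    have hmem : ∀ x, ψA x ∈ L' := fun x => IntermediateField.subset_adjoin K _ ⟨x, rfl⟩
    have hmemB : ∀ x, ψB x ∈ L' := fun x => by
      obtain ⟨i, u, hu⟩ := IsLocalization.Away.surj (φ₀ G) x
      have h1 := congrArg ψB hu
      rw [map_mul, map_pow, hψB, hψB] at h1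
      rw [show ψB x = ψA u / ψA (φ₀ G) ^ i by rw [← h1]; field_simp]
      exact div_mem (hmem _) (pow_mem (hmem _) _)
    let ψ' : B →+* L' := ψB.codRestrict L' hmemB
    have hfrac : ∀ z : L', ∃ a b, ψ' b ≠ 0 ∧ z = ψ' a / ψ' b := by
      have key : ∀ z, z ∈ L' → ∃ a b, ψA b ≠ 0 ∧ z = ψA a / ψA b := by
        intro z hz
        induction hz using IntermediateField.adjoin_induction with
        | mem x hx => obtain ⟨a, rfl⟩ := hx; exact ⟨a, 1, by simp, by simp⟩
        | algebraMap x =>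
          obtain ⟨a, b, hb, rfl⟩ := hK' x
          refine ⟨algebraMap R A a, algebraMap R A b, ?_, by rw [map_div₀, hψAR, hψAR]⟩
          rwa [hψAR, Ne, map_eq_zero]
        | add x y _ _ hx hy =>
          obtain ⟨a, b, hb, rfl⟩ := hx
          obtain ⟨c, d, hd, rfl⟩ := hy
          exact ⟨a * d + b * c, b * d, by rw [map_mul]; exact mul_ne_zero hb hd, by
            rw [map_add, map_mul, map_mul, map_mul, div_add_div _ _ hb hd]⟩
        | inv x _ hx =>
          obtain ⟨a, b, hb, rfl⟩ := hx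
          by_cases ha : ψA a = 0
          · exact ⟨0, 1, by simp, by simp [ha]⟩
          · exact ⟨b, a, ha, by rw [inv_div]⟩
        | mul x y _ _ hx hy =>
          obtain ⟨a, b, hb, rfl⟩ := hx
          obtain ⟨c, d, hd, rfl⟩ := hy
          exact ⟨a * c, b * d, by rw [map_mul]; exact mul_ne_zero hb hd, by
            rw [map_mul, map_mul, div_mul_div_comm]⟩
      rintro ⟨z, hz⟩
      obtain ⟨a, b, hb, rfl⟩ := key z hz
      refine ⟨algebraMap A B a, algebraMap A B b, fun h0 => hb ?_, Subtype.ext ?_⟩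
      · rw [← hψB]; exact congrArg Subtype.val h0
      · show _ = ψB _ / ψB _
        rw [hψB, hψB]
    let Q' : PrimeSpectrum B := ⟨RingHom.ker ψ', RingHom.ker_isPrime ψ'⟩
    have hd' : Algebra.trdeg K L' ≤ ((n - f'.length : ℕ) : Cardinal.{u}) := by
      refine hWtr Q' (hWp Q' (PrimeSpectrum.ext (Ideal.ext fun r => ?_))) K L' χ ψ'
        (fun r => Subtype.ext ?_) hfrac rfl
      · show ψ' (algebraMap R B r) = 0 ↔ r ∈ p
        rw [← hχ, ← map_eq_zero (algebraMap K Λ), ← hψAR, ← hψB, ← IsScalarTower.algebraMap_apply]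
        exact Subtype.ext_iff
      · show algebraMap K Λ (χ r) = ψB (algebraMap R B r)
        rw [IsScalarTower.algebraMap_apply R A B, hψB, hψAR]
    -- the fibre coordinates
    have hf'eq : Ideal.ofList f' = Ideal.span (Set.range f'.get) := by
      rw [← Groth.Calg5.RelGCI.ofList_ofFn, List.ofFn_get]
    choose β hβ using fun i => (Ideal.mem_span_range_iff_exists_fun).1
      (hf'eq.le (hh₀ (f i) (hJ.ge (Ideal.subset_span (Set.mem_range_self i)))))
    choose γ hγ using fun k => (Ideal.mem_span_range_iff_exists_fun).1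
      (show f'.get k ∈ Ideal.span (Set.range f) from hJ.le (hf'I (Ideal.subset_span (List.get_mem f' k))))
    let y : Fin m → Λ := fun j => ψ (mkL (Y j))
    let ε : MvPolynomial (Fin n) R →+* Λ := ψA.comp φ₀.toRingHom
    let v : Fin f'.length → Λ := (Matrix.of γ).map ε *ᵥ y
    have hψC : ∀ x, ψ (mkL (MvPolynomial.C x)) = ψA x := fun x => rfl
    have hEy' : E.map ε *ᵥ y = y := funext fun j => by
      have h1 := congrArg ψ (hEy j)
      simp [Matrix.mulVec, dotProduct, map_sum, EA, Y] at h1 ⊢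
      exact h1
    let W : Matrix (Fin m) (Fin m) (MvPolynomial (Fin n) R) :=
      h₀ • (1 : Matrix (Fin m) (Fin m) (MvPolynomial (Fin n) R)) - Matrix.of β * Matrix.of γ
    have hWE : (W * E).map ε = 0 := by
      ext i j
      have h0 : ∑ j, W i j * f j = 0 := by
        simp only [W, Matrix.sub_apply, Matrix.smul_apply, Matrix.mul_apply, Matrix.of_apply,
          Matrix.one_apply, smul_eq_mul, mul_ite, mul_one, mul_zero, sub_mul, Finset.sum_sub_distrib,
          ite_mul, zero_mul, Finset.sum_ite_eq, Finset.mem_univ, if_true, Finset.sum_mul]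
        rw [Finset.sum_comm, sub_eq_zero, ← hβ i]
        refine Finset.sum_congr rfl fun k _ => ?_
        rw [← hγ k, Finset.mul_sum]
        exact Finset.sum_congr rfl fun j _ => (mul_assoc _ _ _).symm
      have h1 : φ₀ ((W * E) i j) = 0 := hEK (W i) (by rw [h0]; exact zero_mem _) j
      show ψA (φ₀ ((W * E) i j)) = 0
      rw [h1, map_zero]
    have hy : ε h₀ • y = (Matrix.of β).map ε *ᵥ v := by
      have h1 : W.map ε *ᵥ y = 0 := by
        rw [← hEy', Matrix.mulVec_mulVec, ← Matrix.map_mul, hWE, Matrix.zero_mulVec]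
      have h2 : W.map ε = ε h₀ • (1 : Matrix (Fin m) (Fin m) Λ) -
          (Matrix.of β).map ε * (Matrix.of γ).map ε := by
        simp only [W, Matrix.map_sub _ (map_sub ε), Matrix.map_mul]
        congr 1
        ext a b
        simp [Matrix.one_apply, apply_ite ε]
      rw [h2, Matrix.sub_mulVec, Matrix.smul_mulVec, Matrix.one_mulVec, ← Matrix.mulVec_mulVec,
        sub_eq_zero] at h1
      exact h1
    have hh₀ne : ε h₀ ≠ 0 := fun h0 => hG (Ideal.mem_of_dvd _ hhG h0)
    let S := Algebra.adjoin L' (Set.range v)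
    have hL'S : ∀ x, ψA x ∈ S := fun x => S.algebraMap_mem ⟨ψA x, hmem x⟩
    have hψS : ∀ x : MvPolynomial (Fin m) A ⧸ L, ψ x ∈ S := by
      intro x
      obtain ⟨x, rfl⟩ := Ideal.Quotient.mk_surjective x
      induction x using MvPolynomial.induction_on with
      | C x => exact hL'S x
      | add a b ha hb => rw [map_add, map_add]; exact add_mem ha hb
      | mul_X a j ha =>
        rw [map_mul, map_mul]
        refine mul_mem ha ?_
        show y j ∈ S
        have h1 : y j = (ε h₀)⁻¹ * ∑ k, ε (β j k) * v k := by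
          rw [eq_inv_mul_iff_mul_eq₀ hh₀ne]
          exact congrFun hy j
        rw [h1]
        refine mul_mem (S.algebraMap_mem ⟨(ε h₀)⁻¹, inv_mem (hmem _)⟩) ?_
        exact sum_mem fun k _ => mul_mem (hL'S _) (Algebra.subset_adjoin (Set.mem_range_self k))
    refine le_trans (trdeg_le_of_generated L' v (fun z => ?_) hd') ?_
    · obtain ⟨a, b, hb, rfl⟩ := hgen z
      exact ⟨_, hψS a, _, hψS b, hb, rfl⟩
    · exact_mod_cast (by omega : n - f'.length + f'.length ≤ n)
  let : Algebra A (Synt.RelGCIRing R (m + n + 1) _ F) :=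
    (eC.symm.toAlgHom.toRingHom.comp (algebraMap A (MvPolynomial (Fin m) A ⧸ L))).toAlgebra
  have hT : IsScalarTower R A (Synt.RelGCIRing R (m + n + 1) _ F) :=
    IsScalarTower.of_algebraMap_eq fun r => by
      rw [RingHom.algebraMap_toAlgebra, RingHom.comp_apply, ← IsScalarTower.algebraMap_apply]
      exact (eC.symm.commutes r).symm
  let eA : (MvPolynomial (Fin m) A ⧸ L) ≃ₐ[A] Synt.RelGCIRing R (m + n + 1) _ F :=
    AlgEquiv.ofRingEquiv (f := eC.symm.toRingEquiv) fun x => rfl
  refine ⟨m + n + 1, _, F, hGCI, Groth.Calg5.RelGCI.flat_of_isRelGCI hGCI, this, hT,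
    ⟨Algebra.FormallySmooth.of_equiv eA, hfp.equiv eA⟩, (ρC.restrictScalars R).comp eC.toAlgHom,
    fun x => ?_⟩
  show ρC (eC (eC.symm (algebraMap A _ x))) = x
  rw [AlgEquiv.apply_symm_apply]
  exact ρC.commutes x

end Groth.SyntLift
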