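import Groth.Agent.SyntLift.Local
import Groth.Agent.FibreDim.FieldExt

/-!
# Relative global complete intersections descend to finitely generated subrings
-/

set_option autoImplicit false
set_option linter.style.haveILetI false

universe u

open TensorProduct

namespace Groth.SyntLift

attribute [local instance] MvPolynomial.algebraMvPolynomial

/-- The dimension of a fibre does not grow along a field extension of the residue field. -/
theorem ringKrullDim_fibre_ge {R₀ R : Type u} [CommRing R₀] [CommRing R] [Algebra R₀ R] {n : ℕ}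
    {ι : Type*} [Finite ι] (G : ι → MvPolynomial (Fin n) R₀) (p : Ideal R) [p.IsPrime]
    (p₀ : Ideal R₀) [p₀.IsPrime] (hp : p₀ = p.comap (algebraMap R₀ R)) :
    ringKrullDim (p.Fiber (MvPolynomial (Fin n) R ⧸
        Ideal.span (Set.range fun i => MvPolynomial.map (algebraMap R₀ R) (G i)))) ≤
      ringKrullDim (p₀.Fiber (MvPolynomial (Fin n) R₀ ⧸ Ideal.span (Set.range G))) := by
  let f := Ideal.ResidueField.map p₀ p (algebraMap R₀ R) hp
  letI := f.toAlgebra
  have hf : (algebraMap p₀.ResidueField p.ResidueField).comp (algebraMap R₀ p₀.ResidueField) =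
      (algebraMap R p.ResidueField).comp (algebraMap R₀ R) := by
    ext r
    exact Ideal.ResidueField.map_algebraMap p₀ p _ hp r
  rw [ringKrullDim_eq_of_ringEquiv (Groth.Calg5.RelGCI.tensorQuotientEquiv p.ResidueField
      fun i => MvPolynomial.map (algebraMap R₀ R) (G i)).toRingEquiv]
  refine le_trans ?_ (ringKrullDim_eq_of_ringEquiv
    (Groth.Calg5.RelGCI.tensorQuotientEquiv p₀.ResidueField G).toRingEquiv).ge
  refine le_trans (le_of_eq ?_) (Groth.FibreDim.ringKrullDim_tensor_le (k := p₀.ResidueField)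
    (K := p.ResidueField) (A := MvPolynomial (Fin n) p₀.ResidueField ⧸
      Ideal.span (Set.range fun i => MvPolynomial.map (algebraMap R₀ p₀.ResidueField) (G i))))
  refine Eq.trans ?_ (ringKrullDim_eq_of_ringEquiv (Groth.Calg5.RelGCI.tensorQuotientEquiv p.ResidueField
    fun i => MvPolynomial.map (algebraMap R₀ p₀.ResidueField) (G i)).toRingEquiv).symm
  rw [show (fun i => MvPolynomial.map (algebraMap R p.ResidueField)
      (MvPolynomial.map (algebraMap R₀ R) (G i))) = fun i => MvPolynomial.map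
        (algebraMap p₀.ResidueField p.ResidueField)
        (MvPolynomial.map (algebraMap R₀ p₀.ResidueField) (G i)) from funext fun i => by
    rw [MvPolynomial.map_map, MvPolynomial.map_map, hf]]

/-- Points of the quotient over a prime, as primes of the polynomial ring. -/
theorem exists_point {R : Type u} [CommRing R] {n c : ℕ} (F : Fin c → MvPolynomial (Fin n) R)
    (p : Ideal R) [p.IsPrime] (h : Nontrivial (p.Fiber (Synt.RelGCIRing R n c F))) :
    ∃ q : PrimeSpectrum (Synt.RelGCIRing R n c F), q.asIdeal.comap (algebraMap R _) = p := by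
  obtain ⟨⟨m, hm⟩⟩ : Nonempty (PrimeSpectrum (p.Fiber (Synt.RelGCIRing R n c F))) := inferInstance
  let inc : Synt.RelGCIRing R n c F →ₐ[R] p.Fiber (Synt.RelGCIRing R n c F) :=
    Algebra.TensorProduct.includeRight
  refine ⟨⟨m.comap inc.toRingHom, Ideal.IsPrime.comap inc.toRingHom⟩, ?_⟩
  show (m.comap inc.toRingHom).comap (algebraMap R _) = p
  rw [Ideal.comap_comap, show inc.toRingHom.comp (algebraMap R _) =
      (algebraMap p.ResidueField (p.Fiber (Synt.RelGCIRing R n c F))).comp (algebraMap R _) from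
    RingHom.ext fun r => inc.commutes r, ← Ideal.comap_comap,
    (Ideal.eq_bot_or_top (m.comap (algebraMap p.ResidueField _))).resolve_right
      fun ht => hm.ne_top (Ideal.comap_eq_top_iff.1 ht)]
  exact Ideal.ker_algebraMap_residueField p

/-- **Descent of relative global complete intersections.** -/
theorem exists_finiteType_subalgebra_isRelGCI {R : Type u} [CommRing R] {n c : ℕ}
    (F : Fin c → MvPolynomial (Fin n) R) (h : Synt.IsRelGCI R n c F) :
    ∃ (R₀ : Subalgebra ℤ R) (F₀ : Fin c → MvPolynomial (Fin n) R₀), Algebra.FiniteType ℤ R₀ ∧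
      (∀ i, MvPolynomial.map (algebraMap R₀ R) (F₀ i) = F i) ∧ Synt.IsRelGCI R₀ n c F₀ := by
  classical
  let T : Finset R := Finset.univ.biUnion fun i => (F i).coeffs
  let R₀ : Subalgebra ℤ R := Algebra.adjoin ℤ (T : Set R)
  have hG : ∀ i, ∃ G, MvPolynomial.map (algebraMap R₀ R) G = F i := fun i =>
    MvPolynomial.mem_range_map_iff_coeffs_subset.mpr fun a ha =>
      ⟨⟨a, Algebra.subset_adjoin (Finset.mem_biUnion.mpr ⟨i, Finset.mem_univ _, ha⟩)⟩, rfl⟩
  choose G hG using hG
  let B₀ := Synt.RelGCIRing R₀ n c G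
  let good : PrimeSpectrum B₀ → Prop := fun q =>
    c ≤ n ∧ ∀ (K L : Type u) [Field K] [Field L] [Algebra K L] (χ : R₀ →+* K) (ψ : B₀ →+* L),
      (∀ r, algebraMap K L (χ r) = ψ (algebraMap R₀ B₀ r)) →
      (∀ z, ∃ a b, ψ b ≠ 0 ∧ z = ψ a / ψ b) → RingHom.ker ψ = q.asIdeal →
      Algebra.trdeg K L ≤ ((n - c : ℕ) : Cardinal.{u})
  let U₀ := interior {q | good q}
  obtain ⟨J₀, hJ₀⟩ := (PrimeSpectrum.isClosed_iff_zeroLocus_ideal _).1
    (isOpen_interior (s := {q | good q})).isClosed_compl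
  let π := Ideal.Quotient.mk (Ideal.span (Set.range G))
  let J : Ideal (MvPolynomial (Fin n) R₀) := J₀.comap π
  let θ : MvPolynomial (Fin n) R₀ →+* MvPolynomial (Fin n) R := MvPolynomial.map (algebraMap R₀ R)
  have hGJ : Ideal.span (Set.range G) ≤ J := fun x hx => by
    show π x ∈ J₀
    rw [Ideal.Quotient.eq_zero_iff_mem.2 hx]
    exact zero_mem _
  have htop : J.map θ = ⊤ := by
    by_contra hne
    obtain ⟨m, hm, hle⟩ := Ideal.exists_le_maximal _ hne
    let p := m.comap (MvPolynomial.C (R := R) (σ := Fin n))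
    let p₀ := p.comap (algebraMap R₀ R)
    have hF : Ideal.span (Set.range F) ≤ m := by
      refine le_trans (le_of_eq ?_) ((Ideal.map_mono hGJ).trans hle)
      rw [Ideal.map_span, ← Set.range_comp]
      exact congrArg Ideal.span (congrArg Set.range (funext fun i => (hG i).symm))
    obtain ⟨hc, hdim⟩ := h ⟨p, inferInstance⟩ (Groth.Calg5.RelGCI.nontrivial_fibre hF p rfl)
    have hdim₀ : ringKrullDim (p₀.Fiber B₀) ≤ ((n - c : ℕ) : WithBot ℕ∞) := by
      rw [ringKrullDim_eq_of_ringEquiv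
        (Groth.Calg5.RelGCI.tensorQuotientEquiv p₀.ResidueField G).toRingEquiv]
      refine (Groth.Calg5.RelGCI.ringKrullDim_fibre_le G p p₀ rfl).trans ?_
      refine le_trans (le_of_eq ?_) hdim.le
      refine Eq.trans ?_ (ringKrullDim_eq_of_ringEquiv
        (Groth.Calg5.RelGCI.tensorQuotientEquiv p.ResidueField F).toRingEquiv).symm
      rw [show F = fun i => MvPolynomial.map (algebraMap R₀ R) (G i) from funext fun i => (hG i).symm]
    obtain ⟨W, hW, hWp, hWtr⟩ :=
      Groth.FibreDim.exists_open_trdeg_le (B := B₀) ⟨p₀, inferInstance⟩ (n - c) hdim₀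
    have hm' : RingHom.ker π ≤ m.comap θ := by
      rw [Ideal.mk_ker]
      exact hGJ.trans (Ideal.map_le_iff_le_comap.1 hle)
    let Q : PrimeSpectrum B₀ := ⟨(m.comap θ).map π,
      Ideal.map_isPrime_of_surjective Ideal.Quotient.mk_surjective hm'⟩
    have hQc : Q.asIdeal.comap π = m.comap θ := by
      rw [Ideal.comap_map_of_surjective _ Ideal.Quotient.mk_surjective, ← RingHom.ker_eq_comap_bot,
        sup_eq_left.mpr hm']
    have hQW : Q ∈ W := hWp Q (PrimeSpectrum.ext (Ideal.ext fun r => by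
      show π (MvPolynomial.C r) ∈ Q.asIdeal ↔ MvPolynomial.C (algebraMap R₀ R r) ∈ m
      rw [← Ideal.mem_comap, hQc, Ideal.mem_comap]
      show MvPolynomial.map (algebraMap R₀ R) (MvPolynomial.C r) ∈ m ↔ _
      rw [MvPolynomial.map_C]))
    have hQU : Q ∈ U₀ := mem_interior.2 ⟨W, fun q hq => ⟨hc, hWtr q hq⟩, hW, hQW⟩
    refine (show Q ∉ (interior {q | good q})ᶜ from fun hQ => hQ hQU) (hJ₀ ▸ fun x hx => ?_)
    obtain ⟨x, rfl⟩ := Ideal.Quotient.mk_surjective x
    exact Ideal.mem_map_of_mem π (Ideal.map_le_iff_le_comap.1 hle hx)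
  -- finitely many coefficients witness `1 ∈ J.map θ`
  have h1 : (1 : MvPolynomial (Fin n) R) ∈ Ideal.span (Set.range fun j : J => θ j) := by
    have : Ideal.span (Set.range fun j : J => θ j) = J.map θ := by
      rw [Ideal.map]
      exact congrArg Ideal.span (Set.ext fun x => ⟨fun ⟨j, hj⟩ => ⟨j.1, j.2, hj⟩, fun ⟨y, hy, hyx⟩ => ⟨⟨y, hy⟩, hyx⟩⟩)
    rw [this, htop]
    exact Submodule.mem_top
  obtain ⟨b, hb⟩ := Finsupp.mem_span_range_iff_exists_finsupp.1 h1
  let T₁ : Finset R := T ∪ b.support.biUnion fun j => (b j).coeffs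
  let R₁ : Subalgebra ℤ R := Algebra.adjoin ℤ (T₁ : Set R)
  have hle : R₀ ≤ R₁ := Algebra.adjoin_mono (Finset.coe_subset.2 Finset.subset_union_left)
  letI : Algebra R₀ R₁ := (Subalgebra.inclusion hle).toRingHom.toAlgebra
  have hR₁ : (algebraMap R₁ R).comp (algebraMap R₀ R₁) = algebraMap R₀ R := RingHom.ext fun _ => rfl
  let θ₁ : MvPolynomial (Fin n) R₁ →+* MvPolynomial (Fin n) R := MvPolynomial.map (algebraMap R₁ R)
  have hθ₁ : Function.Injective θ₁ := MvPolynomial.map_injective _ Subtype.val_injective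
  let θ' : MvPolynomial (Fin n) R₀ →+* MvPolynomial (Fin n) R₁ := MvPolynomial.map (algebraMap R₀ R₁)
  have hθ' : ∀ x, θ₁ (θ' x) = θ x := fun x => by
    show MvPolynomial.map _ (MvPolynomial.map _ x) = _
    rw [MvPolynomial.map_map, hR₁]
  have hb' : ∀ j ∈ b.support, ∃ b', θ₁ b' = b j := fun j hj =>
    MvPolynomial.mem_range_map_iff_coeffs_subset.mpr fun a ha =>
      ⟨⟨a, Algebra.subset_adjoin (Finset.mem_union_right _ (Finset.mem_biUnion.mpr ⟨j, hj, ha⟩))⟩, rfl⟩
  choose b' hb' using hb'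
  have htop₁ : J.map θ' = ⊤ := by
    rw [Ideal.eq_top_iff_one, show (1 : MvPolynomial (Fin n) R₁) =
      ∑ j ∈ b.support.attach, b' j.1 j.2 * θ' j.1 from hθ₁ (by
        rw [map_one, map_sum, ← hb, Finsupp.sum, ← Finset.sum_attach]
        exact Finset.sum_congr rfl fun j _ => by rw [map_mul, hb', hθ', smul_eq_mul])]
    exact Ideal.sum_mem _ fun j _ => Ideal.mul_mem_left _ _ (Ideal.mem_map_of_mem _ j.1.2)
  let F₁ : Fin c → MvPolynomial (Fin n) R₁ := fun i => θ' (G i)
  refine ⟨R₁, F₁, (Subalgebra.fg_iff_finiteType R₁).mp (Subalgebra.fg_adjoin_finset _),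
    fun i => (hθ' (G i)).trans (hG i), ?_⟩
  have key : ∀ (p₁ : Ideal R₁) [p₁.IsPrime], Nontrivial (p₁.Fiber (Synt.RelGCIRing R₁ n c F₁)) →
      c ≤ n ∧ ringKrullDim (p₁.Fiber (Synt.RelGCIRing R₁ n c F₁)) ≤ ((n - c : ℕ) : WithBot ℕ∞) := by
    intro p₁ _ hnt
    let p₀ := p₁.comap (algebraMap R₀ R₁)
    -- every point over `p₀` is good
    have hgood : ∀ q : PrimeSpectrum B₀, q.asIdeal.comap (algebraMap R₀ B₀) = p₀ → good q := by
      intro q hq
      suffices hq' : q ∈ U₀ from interior_subset (s := {q | good q}) hq'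
      by_contra hqU
      have hJq : J₀ ≤ q.asIdeal := fun x hx =>
        (show q ∈ PrimeSpectrum.zeroLocus (J₀ : Set B₀) from hJ₀ ▸ hqU) hx
      have hqC : (q.asIdeal.comap π).comap MvPolynomial.C = p₀ := by
        rw [Ideal.comap_comap]
        exact hq
      obtain ⟨q', hq', hq'c⟩ := Groth.Calg5.RelGCI.exists_prime_comap p₀ (q.asIdeal.comap π) hqC
      let f := Ideal.ResidueField.map p₀ p₁ (algebraMap R₀ R₁) rfl
      let Φ := MvPolynomial.map (σ := Fin n) f
      have hΦ : ∀ x, Φ (MvPolynomial.map (algebraMap R₀ p₀.ResidueField) x) =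
          MvPolynomial.map (algebraMap R₁ p₁.ResidueField) (θ' x) := fun x => by
        simp only [Φ, θ', MvPolynomial.map_map]
        exact congrArg (fun g => MvPolynomial.map g x)
          (RingHom.ext fun r => Ideal.ResidueField.map_algebraMap p₀ p₁ _ rfl r)
      have h2 : (J.map (MvPolynomial.map (algebraMap R₀ p₀.ResidueField))).map Φ = ⊤ := by
        rw [Ideal.map_map, show Φ.comp (MvPolynomial.map (algebraMap R₀ p₀.ResidueField)) =
          (MvPolynomial.map (algebraMap R₁ p₁.ResidueField)).comp θ' from RingHom.ext hΦ,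
          ← Ideal.map_map, htop₁, Ideal.map_top]
      letI := f.toAlgebra
      have : Module.FaithfullyFlat (MvPolynomial (Fin n) p₀.ResidueField)
          (MvPolynomial (Fin n) p₁.ResidueField) :=
        Module.FaithfullyFlat.of_linearEquiv (MvPolynomial (Fin n) p₀.ResidueField)
          (MvPolynomial (Fin n) p₀.ResidueField ⊗[p₀.ResidueField] p₁.ResidueField)
          (Algebra.IsPushout.equiv p₀.ResidueField (MvPolynomial (Fin n) p₀.ResidueField) p₁.ResidueField
            (MvPolynomial (Fin n) p₁.ResidueField)).toLinearEquiv.symm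
      refine hq'.ne_top (top_le_iff.1 ?_)
      have h3 : J.map (MvPolynomial.map (algebraMap R₀ p₀.ResidueField)) ≤ q' :=
        Ideal.map_le_iff_le_comap.2 (hq'c.symm ▸ Ideal.comap_mono hJq)
      refine le_trans (le_of_eq ?_) h3
      have := Ideal.map_injective_of_faithfullyFlat
        (A := MvPolynomial (Fin n) p₀.ResidueField) (B := MvPolynomial (Fin n) p₁.ResidueField)
        (h2.trans (Ideal.map_top _).symm)
      exact this.symm
    obtain ⟨Q₁, hQ₁⟩ := exists_point F₁ p₁ hnt
    let ρ : B₀ →+* Synt.RelGCIRing R₁ n c F₁ := Ideal.Quotient.lift _ ((Ideal.Quotient.mk _).comp θ')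
      fun x hx => by
        refine Ideal.Quotient.eq_zero_iff_mem.2 ?_
        have h4 : θ' x ∈ (Ideal.span (Set.range G)).map θ' := Ideal.mem_map_of_mem _ hx
        rw [Ideal.map_span, ← Set.range_comp] at h4
        exact h4
    have hc : c ≤ n := (hgood ⟨Q₁.asIdeal.comap ρ, inferInstance⟩ (by
      show (Q₁.asIdeal.comap ρ).comap _ = p₁.comap _
      rw [← hQ₁, Ideal.comap_comap, Ideal.comap_comap]
      congr 1
      ext r
      show Ideal.Quotient.mk _ (θ' (MvPolynomial.C r)) = Ideal.Quotient.mk _ (MvPolynomial.C _)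
      rw [show θ' (MvPolynomial.C r) = MvPolynomial.C (algebraMap R₀ R₁ r) from
        MvPolynomial.map_C _ _])).1
    refine ⟨hc, (ringKrullDim_fibre_ge G p₁ p₀ rfl).trans ?_⟩
    refine ringKrullDim_fiber_le_of_trdeg' p₀ (n - c) fun K L _ _ _ χ ψ hcomp hχ _ hgen => ?_
    exact (hgood ⟨RingHom.ker ψ, RingHom.ker_isPrime ψ⟩ (Ideal.ext fun r => by
      show ψ (algebraMap R₀ B₀ r) = 0 ↔ r ∈ p₀
      rw [← hcomp, map_eq_zero, hχ])).2 K L χ ψ hcomp hgen rfl
  by_cases hc : c ≤ n
  · refine isRelGCI_of_dim_le F₁ hc fun p₁ _ => ?_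
    rcases subsingleton_or_nontrivial (p₁.Fiber (Synt.RelGCIRing R₁ n c F₁)) with hs | hn
    · rw [ringKrullDim_eq_bot_of_subsingleton]
      exact bot_le
    · exact (key p₁ hn).2
  · exact fun p₁ hn => absurd (key p₁.asIdeal hn).1 hc

end Groth.SyntLift
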