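import Groth.Agent.Calg5.RelGCIFlat

/-!
# An idempotent matrix presenting the conormal module of a Koszul-regular ideal
-/

set_option autoImplicit false

universe u

namespace Groth.SyntLift

variable {P : Type u} [CommRing P] {m : ℕ}

/-- The relations modulo `J ^ 2` between the generators `f`. -/
def relMod (J : Ideal P) (f : Fin m → P) : Submodule P (Fin m → P) where
  carrier := {c | ∑ i, c i * f i ∈ J ^ 2}
  add_mem' {a b} ha hb := by
    show ∑ i, (a i + b i) * f i ∈ J ^ 2
    simp only [add_mul, Finset.sum_add_distrib]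
    exact add_mem ha hb
  zero_mem' := by simp
  smul_mem' r c hc := by
    show ∑ i, (r * c i) * f i ∈ J ^ 2
    simp only [mul_assoc, ← Finset.mul_sum]
    exact Ideal.mul_mem_left _ r hc

theorem mem_relMod {J : Ideal P} {f : Fin m → P} {c : Fin m → P} :
    c ∈ relMod J f ↔ ∑ i, c i * f i ∈ J ^ 2 := Iff.rfl

/-- Local data: near a maximal ideal the relations are split by a matrix, up to denominators. -/
theorem exists_local_splitting {J : Ideal P} (f : Fin m → P) (hf : J = Ideal.span (Set.range f))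
    (hK : LCI.IsKoszulRegularIdeal J) (M : Ideal P) [M.IsPrime] :
    ∃ G ∉ M, ∃ b ∈ Submonoid.powers G, ∃ T : Matrix (Fin m) (Fin m) P,
      (∀ i, b * f i - ∑ j, T i j * f j ∈ J ^ 2) ∧
      ∀ c ∈ relMod J f, ∀ j, ∃ d ∈ Submonoid.powers G, d * ∑ i, c i * T i j ∈ J := by
  classical
  have hfJ : ∀ i, f i ∈ J := fun i => hf ▸ Ideal.subset_span (Set.mem_range_self i)
  by_cases hJM : J ≤ M
  swap
  · obtain ⟨G, hGJ, hG⟩ := SetLike.not_le_iff_exists.mp hJM
    refine ⟨G, hG, G, Submonoid.mem_powers G, 0, fun i => ?_, fun c _ j => ⟨1, one_mem _, by simp⟩⟩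
    simp only [Matrix.zero_apply, zero_mul, Finset.sum_const_zero, sub_zero, pow_two]
    exact Ideal.mul_mem_mul hGJ (hfJ i)
  obtain ⟨g, hg, l, hl, hlI⟩ := hK ⟨M, inferInstance⟩ hJM
  refine ⟨g, hg, ?_⟩
  let ι := algebraMap P (Localization.Away g)
  let l' : Fin l.length → (Localization.Away g) := l.get
  have hlK : LCI.IsKoszulRegularSeq (Localization.Away g) (List.ofFn l') := by rwa [List.ofFn_get]
  have hJl : J.map ι = Ideal.span (Set.range l') := by
    rw [← Groth.Calg5.RelGCI.ofList_ofFn, List.ofFn_get]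
    exact hlI
  have hJf : J.map ι = Ideal.span (Set.range fun j => ι (f j)) := by
    rw [hf, Ideal.map_span, ← Set.range_comp]; rfl
  choose β hβ using fun i => (Ideal.mem_span_range_iff_exists_fun).1
    (hJl ▸ Ideal.mem_map_of_mem ι (hfJ i))
  choose γ hγ using fun k => (Ideal.mem_span_range_iff_exists_fun).1
    (show l' k ∈ Ideal.span (Set.range fun j => ι (f j)) from
      hJf ▸ hJl.symm ▸ Ideal.subset_span (Set.mem_range_self k))
  let T' : Fin m → Fin m → (Localization.Away g) := fun i j => ∑ k, β i k * γ k j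
  have hT' : ∀ i, ∑ j, T' i j * ι (f j) = ι (f i) := fun i => by
    rw [← hβ i]
    simp only [T', Finset.sum_mul]
    rw [Finset.sum_comm]
    refine Finset.sum_congr rfl fun k _ => ?_
    rw [← hγ k, Finset.mul_sum]
    exact Finset.sum_congr rfl fun j _ => mul_assoc _ _ _
  have hcT : ∀ c ∈ relMod J f, ∀ j, ∑ i, ι (c i) * T' i j ∈ J.map ι := by
    intro c hc j
    have h2 : ∑ k, (∑ i, ι (c i) * β i k) * l' k ∈ Ideal.span (Set.range l') ^ 2 := by
      have h1 := Ideal.mem_map_of_mem ι (mem_relMod.1 hc)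
      rw [Ideal.map_pow, hJl, map_sum] at h1
      convert h1 using 1
      simp only [Finset.sum_mul, map_mul]
      rw [Finset.sum_comm]
      refine Finset.sum_congr rfl fun i _ => ?_
      rw [← hβ i, Finset.mul_sum]
      exact Finset.sum_congr rfl fun k _ => mul_assoc _ _ _
    have hli := Fintype.linearIndependent_iff.1
      (Groth.Calg5.RelGCI.linearIndependent_toCotangent l' hlK)
      (fun k => Ideal.Quotient.mk _ (∑ i, ι (c i) * β i k)) (by
        rw [← (Ideal.span (Set.range l')).toCotangent_eq_zero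
          ⟨_, Ideal.sum_mem _ fun k (_ : k ∈ Finset.univ) =>
            Ideal.mul_mem_left _ (∑ i, ι (c i) * β i k) (Ideal.subset_span (Set.mem_range_self k))⟩] at h2
        rw [← h2, ← Ideal.Quotient.algebraMap_eq]
        simp only [algebraMap_smul, ← map_smul, ← map_sum]
        exact congrArg _ (Subtype.ext (by simp)))
    simp only [T', Finset.mul_sum]
    rw [Finset.sum_comm]
    refine Ideal.sum_mem _ fun k _ => ?_
    simp only [← mul_assoc, ← Finset.sum_mul]
    exact Ideal.mul_mem_right _ _ (hJl ▸ Ideal.Quotient.eq_zero_iff_mem.1 (hli k))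
  obtain ⟨b, hb⟩ := IsLocalization.exist_integer_multiples_of_finite (Submonoid.powers g)
    (fun ij : Fin m × Fin m => T' ij.1 ij.2)
  choose T hT using fun i j => hb (i, j)
  have he : ∀ i, ∃ e : Submonoid.powers g,
      (e : P) * ((b : P) * f i - ∑ j, T i j * f j) = 0 := fun i =>
    (IsLocalization.map_eq_zero_iff (Submonoid.powers g) (Localization.Away g) _).1 (by
      rw [map_sub, map_mul, map_sum]
      simp only [map_mul, hT, Algebra.smul_def, mul_assoc, ← Finset.mul_sum]
      rw [hT' i, sub_self])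
  choose e he using he
  refine ⟨(∏ i, (e i : P)) * b, mul_mem (prod_mem fun i _ => (e i).2) b.2,
    fun i j => (∏ i, (e i : P)) * T i j, fun i => ?_, fun c hc j => ?_⟩
  · have : (∏ i, (e i : P)) * ((b : P) * f i - ∑ j, T i j * f j) = 0 := by
      rw [← Finset.prod_erase_mul _ _ (Finset.mem_univ i), mul_assoc, he i, mul_zero]
    rw [mul_sub, Finset.mul_sum, ← mul_assoc] at this
    simp only [← mul_assoc] at this
    rw [this]
    exact zero_mem _
  · have h : ι (∑ i, c i * ((∏ i, (e i : P)) * T i j)) ∈ J.map ι := by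
      have : ι (∑ i, c i * ((∏ i, (e i : P)) * T i j)) =
          (ι (∏ i, (e i : P)) * ι (b : P)) * ∑ i, ι (c i) * T' i j := by
        rw [map_sum, Finset.mul_sum]
        refine Finset.sum_congr rfl fun i _ => ?_
        rw [map_mul, map_mul, hT i j, Algebra.smul_def]
        ring
      rw [this]
      exact Ideal.mul_mem_left _ _ (hcT c hc j)
    obtain ⟨d, hd, hdJ⟩ :=
      (IsLocalization.algebraMap_mem_map_algebraMap_iff (Submonoid.powers g) (Localization.Away g) J _).1 h
    exact ⟨d, hd, hdJ⟩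

/-- **Idempotent matrix of the conormal module.** -/
theorem exists_conormal_idempotent {J : Ideal P} (f : Fin m → P)
    (hf : J = Ideal.span (Set.range f)) (hK : LCI.IsKoszulRegularIdeal J) :
    ∃ E : Matrix (Fin m) (Fin m) P, (∀ i, f i - ∑ j, E i j * f j ∈ J ^ 2) ∧
      ∀ c : Fin m → P, ∑ i, c i * f i ∈ J ^ 2 → ∀ j, ∑ i, c i * E i j ∈ J := by
  classical
  have hfJ : ∀ i, f i ∈ J := fun i => hf ▸ Ideal.subset_span (Set.mem_range_self i)
  choose G hGM b hb T hT1 hT2 using fun M : {M : Ideal P // M.IsMaximal} =>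
    have := M.2.isPrime
    exists_local_splitting f hf hK M.1
  have hGtop : Ideal.span (Set.range G) = ⊤ := by
    by_contra hne
    obtain ⟨M, hM, hle⟩ := Ideal.exists_le_maximal _ hne
    exact hGM ⟨M, hM⟩ (hle (Ideal.subset_span ⟨⟨M, hM⟩, rfl⟩))
  obtain ⟨μ, hμ⟩ := Finsupp.mem_span_range_iff_exists_finsupp.1
    (hGtop ▸ Submodule.mem_top : (1 : P) ∈ Ideal.span (Set.range G))
  have glue : ∀ 𝔞 : Ideal P, (∀ M ∈ μ.support, ∃ a ∈ Submonoid.powers (G M), a ∈ 𝔞) → (1 : P) ∈ 𝔞 := by
    intro 𝔞 h𝔞
    have : (1 : P) ∈ 𝔞.radical := hμ ▸ Ideal.sum_mem _ fun M hM => Ideal.mul_mem_left _ _ (by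
      obtain ⟨a, ⟨k, hk⟩, ha⟩ := h𝔞 M hM
      exact ⟨k, by simpa only [hk] using ha⟩)
    obtain ⟨k, hk⟩ := this
    simpa using hk
  -- finitely many relations generate
  let w : {M : Ideal P // M.IsMaximal} → Fin m → Fin m → P :=
    fun M i j => (Pi.single i (b M) : Fin m → P) j - T M i j
  let jv : Fin m × Fin m → Fin m → P := fun ij => Pi.single ij.2 (f ij.1)
  let W : Finset (Fin m → P) :=
    (μ.support.biUnion fun M => Finset.univ.image (w M)) ∪ Finset.univ.image jv
  have hJW : ∀ (v : Fin m → P), (∀ j, v j ∈ J) → v ∈ Submodule.span P (W : Set (Fin m → P)) := by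
    intro v hv
    rw [← Finset.univ_sum_single v]
    refine Submodule.sum_mem _ fun j _ => ?_
    obtain ⟨a, ha⟩ := (Ideal.mem_span_range_iff_exists_fun).1 (hf ▸ hv j)
    rw [show (Pi.single j (v j) : Fin m → P) = ∑ i, a i • jv (i, j) by
      rw [← ha]; ext k; simp [jv, Pi.single_apply]]
    exact Submodule.sum_mem _ fun i _ => Submodule.smul_mem _ _ (Submodule.subset_span
      (Finset.mem_coe.2 (Finset.mem_union_right _ (Finset.mem_image_of_mem _ (Finset.mem_univ _)))))
  have hWK : ∀ v ∈ W, v ∈ relMod J f := by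
    intro v hv
    rcases Finset.mem_union.1 hv with h | h
    · obtain ⟨M, -, h⟩ := Finset.mem_biUnion.1 h
      obtain ⟨i, -, rfl⟩ := Finset.mem_image.1 h
      rw [mem_relMod]
      simp only [w, sub_mul, Finset.sum_sub_distrib, Pi.single_apply, ite_mul, zero_mul,
        Finset.sum_ite_eq', Finset.mem_univ, if_true]
      exact hT1 M i
    · obtain ⟨⟨i, j⟩, -, rfl⟩ := Finset.mem_image.1 h
      rw [mem_relMod]
      simp only [jv, Pi.single_apply, ite_mul, zero_mul, Finset.sum_ite_eq', Finset.mem_univ, if_true]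
      rw [pow_two]
      exact Ideal.mul_mem_mul (hfJ i) (hfJ j)
  have hKW : ∀ c ∈ relMod J f, c ∈ Submodule.span P (W : Set (Fin m → P)) := by
    intro c hc
    have := glue ((Submodule.span P (W : Set (Fin m → P))).comap (LinearMap.toSpanSingleton P _ c))
      fun M hM => by
        choose d hd hdJ using hT2 M c hc
        refine ⟨(∏ j, d j) * b M, mul_mem (prod_mem fun j _ => hd j) (hb M), ?_⟩
        rw [Submodule.mem_comap, LinearMap.toSpanSingleton_apply]
        have : ((∏ j, d j) * b M) • c =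
            ∑ i, ((∏ j, d j) * c i) • w M i + fun j => (∏ j, d j) * ∑ i, c i * T M i j := by
          ext j
          simp only [Pi.smul_apply, smul_eq_mul, Pi.add_apply, Finset.sum_apply, w, mul_sub,
            Finset.sum_sub_distrib, Pi.single_apply, mul_ite, mul_zero, Finset.sum_ite_eq,
            Finset.mem_univ, if_true, Finset.mul_sum, mul_assoc]
          ring
        rw [this]
        refine add_mem (Submodule.sum_mem _ fun i _ => Submodule.smul_mem _ _ (Submodule.subset_span
          (Finset.mem_coe.2 (Finset.mem_union_left _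
            (Finset.mem_biUnion.2 ⟨M, hM, Finset.mem_image_of_mem _ (Finset.mem_univ i)⟩))))) ?_
        exact hJW _ fun j => J.mem_of_dvd (mul_dvd_mul_right
          (Finset.dvd_prod_of_mem d (Finset.mem_univ j)) _) (hdJ j)
    simpa using this
  -- glue the splittings
  let 𝔞 : Ideal P :=
    { carrier := {a | ∃ E : Matrix (Fin m) (Fin m) P, (∀ i, a * f i - ∑ j, E i j * f j ∈ J ^ 2) ∧
        ∀ c ∈ (W : Set (Fin m → P)), ∀ j, ∑ i, c i * E i j ∈ J}
      add_mem' := by
        rintro a a' ⟨E, h1, h2⟩ ⟨E', h1', h2'⟩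
        refine ⟨E + E', fun i => ?_, fun c hc j => ?_⟩
        · convert add_mem (h1 i) (h1' i) using 1
          simp only [Matrix.add_apply, add_mul, Finset.sum_add_distrib]
          ring
        · simp only [Matrix.add_apply, mul_add, Finset.sum_add_distrib]
          exact add_mem (h2 c hc j) (h2' c hc j)
      zero_mem' := ⟨0, fun i => by simp, fun c _ j => by simp⟩
      smul_mem' := by
        rintro r a ⟨E, h1, h2⟩
        refine ⟨r • E, fun i => ?_, fun c hc j => ?_⟩
        · convert Ideal.mul_mem_left _ r (h1 i) using 1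
          simp only [Matrix.smul_apply, smul_eq_mul, mul_sub, Finset.mul_sum, mul_assoc]
        · convert Ideal.mul_mem_left _ r (h2 c hc j) using 1
          simp only [Matrix.smul_apply, smul_eq_mul, Finset.mul_sum, mul_left_comm] }
  obtain ⟨E, hE1, hE2⟩ : (1 : P) ∈ 𝔞 := glue 𝔞 fun M _ => by
    choose d hd hdJ using fun (c : {c // c ∈ W}) j => hT2 M c.1 (hWK c.1 c.2) j
    refine ⟨(∏ x : {c // c ∈ W} × Fin m, d x.1 x.2) * b M,
      mul_mem (prod_mem fun x _ => hd _ _) (hb M),
      fun i j => (∏ x : {c // c ∈ W} × Fin m, d x.1 x.2) * T M i j, fun i => ?_, fun c hc j => ?_⟩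
    · convert Ideal.mul_mem_left _ (∏ x : {c // c ∈ W} × Fin m, d x.1 x.2) (hT1 M i) using 1
      simp only [mul_sub, Finset.mul_sum, mul_assoc]
    · have := J.mem_of_dvd (mul_dvd_mul_right
        (Finset.dvd_prod_of_mem (fun x : {c // c ∈ W} × Fin m => d x.1 x.2)
          (Finset.mem_univ (⟨c, hc⟩, j))) _) (hdJ ⟨c, hc⟩ j)
      convert this using 1
      simp only [Finset.mul_sum]
      exact Finset.sum_congr rfl fun i _ => mul_left_comm _ _ _
  refine ⟨E, fun i => by simpa using hE1 i, fun c hc j => ?_⟩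
  have hcW := hKW c hc
  induction hcW using Submodule.span_induction with
  | mem x hx => exact hE2 x hx j
  | zero => simp
  | add x y hx hy ihx ihy =>
    have hx' : x ∈ relMod J f := Submodule.span_le.2 hWK hx
    have hy' : y ∈ relMod J f := Submodule.span_le.2 hWK hy
    simp only [Pi.add_apply, add_mul, Finset.sum_add_distrib]
    exact add_mem (ihx hx') (ihy hy')
  | smul a x hx ih =>
    have hx' : x ∈ relMod J f := Submodule.span_le.2 hWK hx
    simp only [Pi.smul_apply, smul_eq_mul, mul_assoc, ← Finset.mul_sum]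
    exact Ideal.mul_mem_left _ _ (ih hx')

end Groth.SyntLift
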